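import Cfsg.Agent.KFacts.HN.Sheet
import Cfsg.Agent.CpAutTh.ThreeE
import Cfsg.Agent.Lib.FastPerm
import Cfsg.Agent.LThree.Red
import Cfsg.Agent.S0215
import Cfsg.Agent.HN.Trace
import Cfsg.Agent.HN.A12Group
import Cfsg.Agent.KFacts.HN.Classes
import Cfsg.Agent.HN.TraceFast
import Mathlib
import Cfsg.Agent.Lib.AltCarmichael
import Cfsg.Agent.SignalizersComponents.DistinctComponents
import Cfsg.Agent.FastGrp
import Cfsg.Agent.Prune
set_option linter.all false

section
prune_inst 0x7ffcbefbaffcbddfffff7e7ffffddffffdfdffffffdffbfbffedf9ffafdf6be7fbe5fbafffec5affbff7e2b630f87b53ffffeeffef6bdc7ffffd5ff45fffff9fffffbdad51f6b83e1ffe6ffffbf97fbfffffffffffffffffffffffffffffffffffffffffffff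

-- part: CpAutHN/PPFacts
section
prune_inst 0x340045000422000000000000000000200000000200400000006004000100004000000000080004000000880000000000010000004010000000000000000000000020020090480000010000002000000000000000000000000000000000000000000000000
set_option linter.all false
open scoped Cfsg.Agent.FastGrp

-- merged: Cfsg.Agent.CpAutHN.LqFacts
section

/-!
# Elements of order 3 and involutions of `C(W0)/R = (A5 × A5).2`
-/

set_option autoImplicit false

namespace Cfsg.Agent.CpAutHN.LqFacts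

open Cfsg.Agent.HN Cfsg.Agent.HN.Pres Cfsg.Agent.HN.P1408 Cfsg.Agent.HN.H0Basic Cfsg.Agent.HN.XMat
open Cfsg.Agent.HN.XStruct Cfsg.Agent.HN.XWords Cfsg.Agent.HN.XQuot Cfsg.Agent.HN.XInst
open Cfsg.Agent
open Cfsg.Agent.KFacts.HN
open Cfsg.Agent.Lib.AltCarmichael (cyc cyc_mem)

/-- the 3-cycle `(0 3 4)` of `A5` -/
def c0 : A5 := ⟨cyc 3 0, cyc_mem 3 0 (by norm_num)⟩

theorem φA_c0 : φA c0 = e (aw 0) := φA_cyc (by norm_num)
theorem φB_c0 : φB c0 = e (bw 0) := φB_cyc (by norm_num)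

theorem c0_ne : c0 ≠ 1 := fun h => aw0_ne (by rw [← φA_c0, h, map_one])

theorem c0_cube : c0 ^ 3 = 1 := by
  apply Subtype.ext
  change (cyc 3 0) ^ 3 = 1
  decide

/-! ### `A5` -/

theorem perm_two : ∀ a : Equiv.Perm (Fin 5), a * a = 1 → a * cyc 3 0 = cyc 3 0 * a →
    Equiv.Perm.sign a = 1 → a = 1 := by (set_option synthInstance.maxSize 9000 in open scoped Cfsg.Agent.Lib.FastPerm in decide +kernel)

theorem perm_cent : ∀ a : Equiv.Perm (Fin 5), a * cyc 3 0 = cyc 3 0 * a → Equiv.Perm.sign a = 1 →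
    a = 1 ∨ a = cyc 3 0 ∨ a = cyc 3 0 * cyc 3 0 := by (set_option synthInstance.maxSize 9000 in open scoped Cfsg.Agent.Lib.FastPerm in decide +kernel)

theorem two_c0 {a : A5} (h : a * a = 1) (hc : a * c0 = c0 * a) : a = 1 :=
  Subtype.ext (perm_two a (congrArg Subtype.val h) (congrArg Subtype.val hc) (Equiv.Perm.mem_alternatingGroup.1 a.2))

theorem cent_c0 {a : A5} (hc : a * c0 = c0 * a) : a = 1 ∨ a = c0 ∨ a = c0 * c0 := by
  rcases perm_cent a (congrArg Subtype.val hc) (Equiv.Perm.mem_alternatingGroup.1 a.2) with h | h | h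
  · exact Or.inl (Subtype.ext h)
  · exact Or.inr (Or.inl (Subtype.ext h))
  · exact Or.inr (Or.inr (Subtype.ext h))

theorem isThreeCycle {a : A5} (h3 : a ^ 3 = 1) (h1 : a ≠ 1) : (a : Equiv.Perm (Fin 5)).IsThreeCycle := by
  have h4 : orderOf (a : Equiv.Perm (Fin 5)) = 3 := by
    rw [Subgroup.orderOf_coe]
    exact orderOf_eq_prime h3 h1
  obtain ⟨n, hn⟩ := Equiv.Perm.cycleType_prime_order (σ := (a : Equiv.Perm (Fin 5))) (by rw [h4]; norm_num)
  rw [h4] at hn
  have h5 : ((a : Equiv.Perm (Fin 5)).cycleType).sum ≤ 5 := by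
    rw [Equiv.Perm.sum_cycleType]
    exact (Finset.card_le_univ _).trans (by simp)
  rw [hn, Multiset.sum_replicate, smul_eq_mul] at h5
  have h6 : n = 0 := by omega
  rw [h6] at hn
  exact hn

theorem conj_c0 {a : A5} (h3 : a ^ 3 = 1) (h1 : a ≠ 1) : ∃ g : A5, g * a * g⁻¹ = c0 := by
  have h2 := alternatingGroup.isThreeCycle_isConj (α := Fin 5) (by simp) (isThreeCycle h3 h1)
    (isThreeCycle c0_cube c0_ne)
  exact isConj_iff.1 h2

/-! ### `Lq` -/

/-- conjugation of the first factor by elements of `LL` -/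
theorem conj_A (a b x : A5) : φA a * φB b * φA x * (φA a * φB b)⁻¹ = φA (a * x * a⁻¹) := by
  rw [map_mul, map_mul, map_inv]
  have h := comm_AB x b
  calc φA a * φB b * φA x * (φA a * φB b)⁻¹ = φA a * (φB b * φA x) * (φB b)⁻¹ * (φA a)⁻¹ := by group
    _ = φA a * φA x * (φA a)⁻¹ := by rw [← h]; group

theorem conj_B (a b x : A5) : φA a * φB b * φB x * (φA a * φB b)⁻¹ = φB (b * x * b⁻¹) := by
  rw [map_mul, map_mul, map_inv]
  have h := comm_AB a (b * x * b⁻¹)
  rw [map_mul, map_mul, map_inv] at h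
  calc φA a * φB b * φB x * (φA a * φB b)⁻¹ = φA a * (φB b * φB x * (φB b)⁻¹) * (φA a)⁻¹ := by group
    _ = φB b * φB x * (φB b)⁻¹ := by rw [h]; group

theorem conj_AB (a b x y : A5) :
    φA a * φB b * (φA x * φB y) * (φA a * φB b)⁻¹ = φA (a * x * a⁻¹) * φB (b * y * b⁻¹) := by
  rw [← conj_A a b x, ← conj_B a b y]
  group

theorem e1_A (x : A5) : e [1] * φB x * (e [1])⁻¹ = φA x := by
  rw [φB_apply]; group

/-- conjugation by `e [1]` maps the first factor onto the second one -/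
theorem exists_e1_B (x : A5) : ∃ y : A5, e [1] * φA y * (e [1])⁻¹ = φB x := by
  obtain ⟨a, b, hab⟩ := mem_LL.1 e11_mem
  refine ⟨b⁻¹ * x * b, ?_⟩
  have h1 : ∀ y : A5, e [1] * φA y * (e [1])⁻¹ = φB (b * y * b⁻¹) := by
    intro y
    rw [← conj_B a b y, hab, φB_apply, show ([1, 1] : List ℕ) = [1] ++ [1] from rfl, e_append]
    group
  rw [h1]
  congr 1
  group

/-- an element commuting with an element `≠ 1` of the first factor is in `LL` -/
theorem mem_LL_of_comm {z : Lq} {x : A5} (hx : x ≠ 1) (h : z * φA x = φA x * z) : z ∈ LL := by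
  rcases LL_or z with h1 | ⟨y, hy, rfl⟩
  · exact h1
  · exfalso
    obtain ⟨a, b, rfl⟩ := mem_LL.1 hy
    -- `φA x = z⁻¹ φA x z` is in the second factor
    have h2 : φA x = (e [1])⁻¹ * ((φA a * φB b)⁻¹ * φA x * (φA a * φB b)) * e [1] := by
      calc φA x = (φA a * φB b * e [1])⁻¹ * (φA a * φB b * e [1] * φA x) := by group
        _ = (φA a * φB b * e [1])⁻¹ * (φA x * (φA a * φB b * e [1])) := by rw [h]
        _ = _ := by group
    have h3 : (φA a * φB b)⁻¹ * φA x * (φA a * φB b) = φA (a⁻¹ * x * a) := by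
      have h4 := conj_A a b (a⁻¹ * x * a)
      rw [show a * (a⁻¹ * x * a) * a⁻¹ = x by group] at h4
      rw [← h4]
      group
    rw [h3, ← φB_apply] at h2
    exact hx (A_inter_B h2).1

/-- a subgroup commuting with the first factor keeps commuting with a factor after conjugation -/
theorem conj_factor (g : Lq) :
    (∀ x : A5, ∃ y : A5, g * φA y * g⁻¹ = φA x) ∨ ∀ x : A5, ∃ y : A5, g * φA y * g⁻¹ = φB x := by
  rcases LL_or g with h | ⟨y, hy, rfl⟩
  · left
    obtain ⟨a, b, rfl⟩ := mem_LL.1 h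
    intro x
    refine ⟨a⁻¹ * x * a, ?_⟩
    rw [conj_A]
    congr 1
    group
  · right
    obtain ⟨a, b, rfl⟩ := mem_LL.1 hy
    intro x
    obtain ⟨y, hy⟩ := exists_e1_B (b⁻¹ * x * b)
    refine ⟨y, ?_⟩
    calc φA a * φB b * e [1] * φA y * (φA a * φB b * e [1])⁻¹
        = φA a * φB b * (e [1] * φA y * (e [1])⁻¹) * (φA a * φB b)⁻¹ := by group
      _ = φB x := by
        rw [hy, conj_B]
        congr 1
        group

/-- an element of the second factor is not conjugate to an element commuting with none of `e (aw 0)`, `e (bw 0)` -/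
theorem not_conj_B {w : List ℕ} (hA : e w * e (aw 0) ≠ e (aw 0) * e w) (hB : e w * e (bw 0) ≠ e (bw 0) * e w)
    (b : A5) (g : Lq) : g * φB b * g⁻¹ ≠ e w := by
  intro h
  have key : ∀ y : A5, e w * (g * φA y * g⁻¹) = g * φA y * g⁻¹ * e w := by
    intro y
    have hc := comm_AB y b
    rw [← h]
    calc g * φB b * g⁻¹ * (g * φA y * g⁻¹) = g * (φB b * φA y) * g⁻¹ := by group
      _ = g * (φA y * φB b) * g⁻¹ := by rw [hc]
      _ = _ := by group
  rcases conj_factor g with h1 | h1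
  · obtain ⟨y, hy⟩ := h1 c0
    apply hA
    rw [← φA_c0, ← hy]
    exact key y
  · obtain ⟨y, hy⟩ := h1 c0
    apply hB
    rw [← φB_c0, ← hy]
    exact key y

theorem xi2_A : e [0, 1, 1, 1, 0, 0, 1] * e (aw 0) ≠ e (aw 0) * e [0, 1, 1, 1, 0, 0, 1] := by
  rw [← e_append, ← e_append, Ne, e_eq_iff]
  decide +kernel

theorem xi2_B : e [0, 1, 1, 1, 0, 0, 1] * e (bw 0) ≠ e (bw 0) * e [0, 1, 1, 1, 0, 0, 1] := by
  rw [← e_append, ← e_append, Ne, e_eq_iff]
  decide +kernel

theorem xi3_A : e [0, 1, 0, 1, 1] * e (aw 0) ≠ e (aw 0) * e [0, 1, 0, 1, 1] := by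
  rw [← e_append, ← e_append, Ne, e_eq_iff]
  decide +kernel

theorem xi3_B : e [0, 1, 0, 1, 1] * e (bw 0) ≠ e (bw 0) * e [0, 1, 0, 1, 1] := by
  rw [← e_append, ← e_append, Ne, e_eq_iff]
  decide +kernel

/-- **elements of order 3** -/
theorem order_three {z : Lq} (h3 : z ^ 3 = 1) (h1 : z ≠ 1) :
    ∃ g : Lq, g * z * g⁻¹ = φA c0 ∨ g * z * g⁻¹ = φA c0 * φB c0 := by
  have hz : z ∈ LL := by
    have h2 : (z ^ 2) ^ 2 = z := by
      rw [← pow_mul, show 2 * 2 = 3 + 1 from rfl, pow_add, h3, one_mul, pow_one]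
    rw [← h2]
    exact LL.pow_mem (Subgroup.sq_mem_of_index_two index_LL z) 2
  obtain ⟨a, b, rfl⟩ := mem_LL.1 hz
  have h4 : a ^ 3 = 1 ∧ b ^ 3 = 1 := by
    apply φ2_inj
    rw [map_pow, map_pow, ← (show Commute (φA a) (φB b) from comm_AB a b).mul_pow, h3, map_one, map_one, one_mul]
  obtain ⟨ha, hb⟩ := h4
  by_cases ha1 : a = 1
  · have hb1 : b ≠ 1 := by
      rintro rfl
      exact h1 (by rw [ha1, map_one, map_one, one_mul])
    obtain ⟨g, hg⟩ := conj_c0 hb hb1
    refine ⟨φA g * φB 1 * e [1], Or.inl ?_⟩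
    have h5 : φA a * φB b = φB b := by rw [ha1, map_one, one_mul]
    calc φA g * φB 1 * e [1] * (φA a * φB b) * (φA g * φB 1 * e [1])⁻¹
        = φA g * φB 1 * (e [1] * φB b * (e [1])⁻¹) * (φA g * φB 1)⁻¹ := by
          rw [h5]; group
      _ = φA c0 := by rw [e1_A, conj_A, hg]
  · by_cases hb1 : b = 1
    · obtain ⟨g, hg⟩ := conj_c0 ha ha1
      refine ⟨φA g * φB 1, Or.inl ?_⟩
      rw [hb1, conj_AB, hg]
      simp only [mul_one, inv_one, map_one]
    · obtain ⟨g, hg⟩ := conj_c0 ha ha1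
      obtain ⟨g', hg'⟩ := conj_c0 hb hb1
      refine ⟨φA g * φB g', Or.inr ?_⟩
      rw [conj_AB, hg, hg']

/-- an involution commuting with `φA c0` is in the second factor -/
theorem two_comm {z : Lq} (h2 : z * z = 1) (hc : z * φA c0 = φA c0 * z) : ∃ b : A5, z = φB b := by
  obtain ⟨a, b, rfl⟩ := mem_LL.1 (mem_LL_of_comm c0_ne hc)
  have h3 : a * a = 1 ∧ b * b = 1 := by
    apply φ2_inj
    rw [map_one, map_one, one_mul, map_mul, map_mul, ← h2]
    have h := comm_AB a b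
    calc φA a * φA a * (φB b * φB b) = φA a * (φA a * φB b) * φB b := by group
      _ = φA a * (φB b * φA a) * φB b := by rw [← h]
      _ = φA a * φB b * (φA a * φB b) := by group
  have h4 : a * c0 = c0 * a := by
    apply φA_inj
    rw [map_mul, map_mul]
    have h := comm_AB c0 b
    apply mul_right_cancel (b := φB b)
    calc φA a * φA c0 * φB b = φA a * (φA c0 * φB b) := by group
      _ = φA a * φB b * φA c0 := by rw [h]; group
      _ = φA c0 * (φA a * φB b) := hc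
      _ = φA c0 * φA a * φB b := by group
  refine ⟨b, ?_⟩
  rw [two_c0 h3.1 h4, map_one, one_mul]

/-- the elements of `LL` commuting with `φA c0 φB c0` -/
theorem cent_LL_mem {z : Lq} (hz : z ∈ LL) (hc : z * (φA c0 * φB c0) = φA c0 * φB c0 * z) :
    ∃ a ∈ ({1, c0, c0 * c0} : Finset A5), ∃ b ∈ ({1, c0, c0 * c0} : Finset A5), z = φA a * φB b := by
  obtain ⟨a, b, rfl⟩ := mem_LL.1 hz
  have h1 : φA a * φB b * (φA c0 * φB c0) * (φA a * φB b)⁻¹ = φA c0 * φB c0 := by rw [hc]; group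
  rw [conj_AB] at h1
  obtain ⟨h2, h3⟩ := φ2_inj h1
  refine ⟨a, ?_, b, ?_, rfl⟩
  · have := cent_c0 (mul_inv_eq_iff_eq_mul.1 h2)
    simp only [Finset.mem_insert, Finset.mem_singleton]
    exact this
  · have := cent_c0 (mul_inv_eq_iff_eq_mul.1 h3)
    simp only [Finset.mem_insert, Finset.mem_singleton]
    exact this

end Cfsg.Agent.CpAutHN.LqFacts

end

-- merged: Cfsg.Agent.CpAutHN.PPFacts
section

/-!
# Elements of order 3 of `C(W0)`: the two types

* `conj_std` : an element of order 3 of `PP = C(W0)` is conjugate in `PP` to `x` with `ρ x = φA c0` or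
  `ρ x = φA c0 φB c0`; two elements of order 3 with the same image are conjugate in `PP` (`conj_same`);
* `only_W0` : `ρ x = φA c0`: the only involution of `C(W0) ∩ C(x)` is `W0`;
* `card_dvd` : `ρ x = φA c0 φB c0`: `|C(W0) ∩ C(x)|` divides `576`.
-/

set_option autoImplicit false

namespace Cfsg.Agent.CpAutHN.PPFacts

open Cfsg.Agent.HN Cfsg.Agent.HN.Pres Cfsg.Agent.HN.P1408 Cfsg.Agent.HN.H0Basic Cfsg.Agent.HN.XMat
open Cfsg.Agent.HN.XStruct Cfsg.Agent.HN.XWords Cfsg.Agent.HN.XQuot Cfsg.Agent.HN.XInst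
open Cfsg.Agent
open Cfsg.Agent.KFacts.HN
open Cfsg.Agent.CpAutHN.LqFacts
open Cfsg.Agent.SporadicA.PermTab (band_eq_true allB allB_iff)

theorem isPGroup_ker : IsPGroup 2 ↥ρ.ker := IsPGroup.of_card (n := 9) (by rw [card_ker]; norm_num)

/-- elements of order 3 with the same image are conjugate -/
theorem conj_same [Finite Cfsg.Spor.HN] {x y : PP} (hx : orderOf x = 3) (hy : orderOf y = 3) (h : ρ x = ρ y) :
    ∃ q : PP, q * x * q⁻¹ = y := by
  obtain ⟨q, -, hq⟩ := CpAutTh.RankOne.conj_of_quot Nat.prime_two Nat.prime_three (by norm_num) ρ isPGroup_ker hx hy h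
  exact ⟨q, hq⟩

theorem ρ_order [Finite Cfsg.Spor.HN] {x : PP} (hx : orderOf x = 3) : ρ x ≠ 1 := by
  intro h
  have h1 : x ∈ ρ.ker := h
  have h2 : orderOf (⟨x, h1⟩ : ↥ρ.ker) ∣ Nat.card ↥ρ.ker := orderOf_dvd_natCard _
  rw [← Subgroup.orderOf_coe, card_ker] at h2
  change orderOf x ∣ 512 at h2
  rw [hx] at h2
  norm_num at h2

/-- standard forms -/
theorem conj_std [Finite Cfsg.Spor.HN] {x : PP} (hx : orderOf x = 3) :
    ∃ g : PP, ρ (g * x * g⁻¹) = φA c0 ∨ ρ (g * x * g⁻¹) = φA c0 * φB c0 := by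
  have h3 : ρ x ^ 3 = 1 := by rw [← map_pow, ← hx, pow_orderOf_eq_one, map_one]
  obtain ⟨z, hz⟩ := order_three h3 (ρ_order hx)
  obtain ⟨g, rfl⟩ := ρ_surj z
  refine ⟨g, ?_⟩
  rw [map_mul, map_mul, map_inv]
  exact hz

/-- the matrix of the action of an element with given image -/
theorem acts_of_ρ {x : PP} {w : List ℕ} (hw : ρ x = e w) : Acts k (π W0 (x : Cfsg.Spor.HN)) (mw w) := by
  rw [ρ_apply] at hw
  have h4 : (π W0 (x : Cfsg.Spor.HN))⁻¹ * evw γ w ∈ Rk := QuotientGroup.eq.1 hw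
  have h0 := normal_Rk.conj_mem _ (Rk.inv_mem h4) (π W0 (x : Cfsg.Spor.HN))
  obtain ⟨j, hj, h1⟩ := mem_Rk.1 h0
  have h5 : π W0 (x : Cfsg.Spor.HN) = r k j * evw γ w := by rw [← h1]; group
  rw [h5]
  exact hyp.toBas.acts_rmul (hyp.toBas.acts_evw w) j

/-- the elements of `R` commuting with `x` -/
theorem app_eq_of_comm {x v : PP} {w : List ℕ} (hw : ρ x = e w) {m : ℕ} (hm : m < 256) {c : Bool}
    (hv : (v : Cfsg.Spor.HN) = r Q m * sgn0 c) (h : v * x = x * v) : app (mw w) m = m := by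
  obtain ⟨d, hd⟩ := r_conj x.2 (acts_of_ρ hw) m
  have h1 : (x : Cfsg.Spor.HN)⁻¹ * (r Q m * sgn0 c) * x = r Q m * sgn0 c := by
    rw [← hv, mul_assoc, ← Subgroup.coe_mul, h, Subgroup.coe_mul, inv_mul_cancel_left]
  have h2 : (x : Cfsg.Spor.HN)⁻¹ * (r Q m * sgn0 c) * x = r Q (app (mw w) m) * sgn0 (d ^^ c) := by
    have h3 := csg c (x : Cfsg.Spor.HN) (mem_PP.1 x.2)
    calc (x : Cfsg.Spor.HN)⁻¹ * (r Q m * sgn0 c) * x = (x : Cfsg.Spor.HN)⁻¹ * r Q m * (sgn0 c * x) := by group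
      _ = (x : Cfsg.Spor.HN)⁻¹ * r Q m * x * sgn0 c := by rw [← h3]; group
      _ = r Q (app (mw w) m) * sgn0 (d ^^ c) := by rw [hd, mul_assoc, sgn0_mul]
  exact (r_sgn_inj (app_lt _ _) hm (h2.symm.trans h1)).1

theorem mem_ker_iff {v : PP} : v ∈ ρ.ker ↔ ∃ m < 256, ∃ c : Bool, (v : Cfsg.Spor.HN) = r Q m * sgn0 c := by
  rw [← mem_RS]
  constructor
  · intro h
    exact ⟨v, h, rfl⟩
  · rintro ⟨u, hu, huv⟩
    have : u = v := Subtype.ext huv
    rwa [← this]

/-! ### the first type -/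

theorem chkA : allB (fun m => Nat.beq m 0 || Nat.beq (app (mw (aw 0)) m) m == false) 256 = true := by decide +kernel

theorem fix_A {m : ℕ} (hm : m < 256) (h : app (mw (aw 0)) m = m) : m = 0 := by
  have h1 := (allB_iff _ _).1 chkA m hm
  rw [Bool.or_eq_true] at h1
  rcases h1 with h1 | h1
  · exact Nat.eq_of_beq_eq_true h1
  · rw [h, Nat.beq_refl] at h1
    exact absurd h1 (by decide)

theorem sgn0_cases (c : Bool) : sgn0 c = 1 ∨ sgn0 c = W0 := by
  cases c
  · exact Or.inl rfl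
  · exact Or.inr rfl

/-- the only involution of `C(W0)` commuting with an element of the first type is `W0` -/
theorem only_W0 [Finite Cfsg.Spor.HN] {x v : PP} (hx : ρ x = φA c0) (hv : v * v = 1) (h : v * x = x * v) :
    (v : Cfsg.Spor.HN) = 1 ∨ (v : Cfsg.Spor.HN) = W0 := by
  obtain ⟨b, hb⟩ := two_comm (z := ρ v) (by rw [← map_mul, hv, map_one]) (by rw [← hx, ← map_mul, h, map_mul])
  have hvs : (v : Cfsg.Spor.HN) * v = 1 := congrArg Subtype.val hv
  have hc := mem_PP.1 v.2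
  by_cases hb1 : b = 1
  · rw [hb1, map_one] at hb
    obtain ⟨m, hm, c, hvm⟩ := mem_ker_iff.1 hb
    have h1 := fix_A hm (app_eq_of_comm (hx.trans φA_c0) hm hvm h)
    rw [h1, show r Q 0 = 1 from Bas.r_zero, one_mul] at hvm
    rw [hvm]
    exact sgn0_cases c
  · exfalso
    have hsq : π W0 (v : Cfsg.Spor.HN) * π W0 (v : Cfsg.Spor.HN) = 1 := by rw [← π_mul hc hc, hvs, π_one]
    have hρ : ρ v = QuotientGroup.mk (s := Rk) (π W0 (v : Cfsg.Spor.HN)) := ρ_apply v
    rcases Cfsg.Agent.HN.XClose.involution_cases hyp disj hsq with h1 | ⟨g, h1 | h1 | h1⟩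
    · apply hb1
      apply φB_inj
      rw [← hb, map_one, hρ, QuotientGroup.eq_one_iff]
      exact h1
    · obtain ⟨s, hs, rfl⟩ := π_surj g
      have h2 : π W0 (s * v * s⁻¹) = π W0 (evw Γ [0, 2, 0, 2, 0, 2]) := by
        rw [π_mul (comm_mul hs hc) (comm_inv hs), π_mul hs hc, π_inv hs, h1, π_e]
        rfl
      have h3 : (s * (v : Cfsg.Spor.HN) * s⁻¹) * (s * v * s⁻¹) = 1 := by
        calc (s * (v : Cfsg.Spor.HN) * s⁻¹) * (s * v * s⁻¹) = s * (v * v) * s⁻¹ := by group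
          _ = 1 := by rw [hvs]; group
      have h4 : (s * (v : Cfsg.Spor.HN) * s⁻¹) * (s * v * s⁻¹) = W0 := by
        have hce := cwe [0, 2, 0, 2, 0, 2]
        rcases (π_eq_iff W0_sq (comm_mul (comm_mul hs hc) (comm_inv hs)) hce.symm).1 h2 with h5 | h5
        · rw [← h5, yh6]
        · have h6 : s * (v : Cfsg.Spor.HN) * s⁻¹ = evw Γ [0, 2, 0, 2, 0, 2] * W0 := by
            rw [h5, mul_assoc (s * (v : Cfsg.Spor.HN) * s⁻¹) W0 W0, W0_sq, mul_one]
          rw [h6]
          calc evw Γ [0, 2, 0, 2, 0, 2] * W0 * (evw Γ [0, 2, 0, 2, 0, 2] * W0)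
              = evw Γ [0, 2, 0, 2, 0, 2] * (W0 * evw Γ [0, 2, 0, 2, 0, 2]) * W0 := by group
            _ = (evw Γ [0, 2, 0, 2, 0, 2] * evw Γ [0, 2, 0, 2, 0, 2]) * (W0 * W0) := by rw [hce]; group
            _ = W0 := by rw [yh6, W0_sq, mul_one]
      exact W0_ne (h4.symm.trans h3)
    · apply not_conj_B xi2_A xi2_B b (QuotientGroup.mk (s := Rk) g)
      rw [← hb, hρ]
      have h2 : (QuotientGroup.mk (s := Rk) g) * QuotientGroup.mk (s := Rk) (π W0 (v : Cfsg.Spor.HN)) *
          (QuotientGroup.mk (s := Rk) g)⁻¹ = QuotientGroup.mk (s := Rk) (xi2 k γ) := by rw [← h1]; rfl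
      rw [h2]
      have h3 : (QuotientGroup.mk (s := Rk) (r k 45) : Lq) = 1 :=
        (QuotientGroup.eq_one_iff _).2 (mem_Rk.2 ⟨45, by norm_num, rfl⟩)
      change QuotientGroup.mk (s := Rk) (r k 45) * e [0, 1, 1, 1, 0, 0, 1] = _
      rw [h3, one_mul]
    · apply not_conj_B xi3_A xi3_B b (QuotientGroup.mk (s := Rk) g)
      rw [← hb, hρ]
      have h2 : (QuotientGroup.mk (s := Rk) g) * QuotientGroup.mk (s := Rk) (π W0 (v : Cfsg.Spor.HN)) *
          (QuotientGroup.mk (s := Rk) g)⁻¹ = QuotientGroup.mk (s := Rk) (xi3 k γ) := by rw [← h1]; rfl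
      rw [h2]
      have h3 : (QuotientGroup.mk (s := Rk) (r k 92) : Lq) = 1 :=
        (QuotientGroup.eq_one_iff _).2 (mem_Rk.2 ⟨92, by norm_num, rfl⟩)
      change QuotientGroup.mk (s := Rk) (r k 92) * e [0, 1, 0, 1, 1] = _
      rw [h3, one_mul]

/-! ### the second type -/

/-- the masks fixed by an element of the second type -/
def fixB : List ℕ := (List.range 256).filter fun m => Nat.beq (app (mw (aw 0 ++ bw 0)) m) m

theorem length_fixB : fixB.length = 16 := by decide +kernel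

theorem ρ_B {x : PP} (hx : ρ x = φA c0 * φB c0) : ρ x = e (aw 0 ++ bw 0) := by
  rw [hx, e_append, φA_c0, φB_c0]

/-- the subgroup of `C(W0)` of the elements commuting with `x` -/
noncomputable def CP (x : PP) : Subgroup PP := Subgroup.centralizer ({x} : Set PP)

theorem card_ker_le [Finite Cfsg.Spor.HN] {x : PP} (hx : ρ x = φA c0 * φB c0) :
    Nat.card ↥(CP x ⊓ ρ.ker) ≤ 32 := by
  classical
  have h0 : ∀ v : ↥(CP x ⊓ ρ.ker), ∃ y : Fin 16 × Bool, ((v : PP) : Cfsg.Spor.HN) =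
      r Q (fixB.get (y.1.cast length_fixB.symm)) * sgn0 y.2 := by
    rintro ⟨v, hv1, hv2⟩
    obtain ⟨m, hm, c, hvm⟩ := mem_ker_iff.1 hv2
    have h1 : v * x = x * v := Subgroup.mem_centralizer_singleton_iff.1 hv1
    have h2 := app_eq_of_comm (ρ_B hx) hm hvm h1
    have h3 : m ∈ fixB := List.mem_filter.2 ⟨List.mem_range.2 hm, by
      show Nat.beq _ _ = true
      rw [h2, Nat.beq_refl]⟩
    obtain ⟨i, hi⟩ := List.get_of_mem h3
    refine ⟨(i.cast length_fixB, c), ?_⟩
    change (v : Cfsg.Spor.HN) = _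
    rw [hvm, ← hi]
    rfl
  choose f hf using h0
  have hinj : Function.Injective f := by
    intro u v huv
    apply Subtype.ext
    apply Subtype.ext
    rw [hf u, hf v, huv]
  have h2 := Nat.card_le_card_of_injective f hinj
  rwa [Nat.card_prod, Nat.card_eq_fintype_card (α := Fin 16), Nat.card_eq_fintype_card (α := Bool), Fintype.card_fin,
    Fintype.card_bool] at h2

theorem card_ker_dvd [Finite Cfsg.Spor.HN] {x : PP} (hx : ρ x = φA c0 * φB c0) :
    Nat.card ↥(CP x ⊓ ρ.ker) ∣ 32 := by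
  have h1 : IsPGroup 2 ↥(CP x ⊓ ρ.ker) := isPGroup_ker.to_le inf_le_right
  obtain ⟨n, hn⟩ := IsPGroup.iff_card.1 h1
  have h2 := card_ker_le hx
  rw [hn] at h2 ⊢
  have h3 : n ≤ 5 := by
    by_contra h4
    have h5 : 2 ^ 6 ≤ 2 ^ n := Nat.pow_le_pow_right (by norm_num) (by omega)
    omega
  exact (Nat.pow_dvd_pow 2 h3).trans (by norm_num)

/-- the image of the centralizer has order dividing `18` -/
theorem card_image_dvd {J : Subgroup Lq} (hJ : ∀ z ∈ J, z * (φA c0 * φB c0) = φA c0 * φB c0 * z) :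
    Nat.card ↥J ∣ 18 := by
  classical
  -- the subgroup of order 9
  let C0 : Subgroup (A5 × A5) := (Subgroup.zpowers c0).prod (Subgroup.zpowers c0)
  have hc0 : orderOf c0 = 3 := orderOf_eq_prime c0_cube c0_ne
  have hC0 : Nat.card ↥C0 = 9 := by
    rw [Nat.card_congr (Subgroup.prodEquiv _ _).toEquiv, Nat.card_prod, Nat.card_zpowers, hc0]
  have hmap : Nat.card ↥(C0.map φ2) = 9 := by
    have hinj : Function.Injective φ2 := by
      rintro ⟨a, b⟩ ⟨a', b'⟩ h
      obtain ⟨h1, h2⟩ := φ2_inj h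
      exact Prod.ext h1 h2
    rw [← hC0]
    exact (Nat.card_congr (C0.equivMapOfInjective φ2 hinj).toEquiv).symm
  have hle : J ⊓ LL ≤ C0.map φ2 := by
    rintro z ⟨hz, hzL⟩
    obtain ⟨a, ha, b, hb, rfl⟩ := cent_LL_mem hzL (hJ z hz)
    have key : ∀ a ∈ ({1, c0, c0 * c0} : Finset A5), a ∈ Subgroup.zpowers c0 := by
      intro a ha
      simp only [Finset.mem_insert, Finset.mem_singleton] at ha
      rcases ha with rfl | rfl | rfl
      · exact Subgroup.one_mem _
      · exact Subgroup.mem_zpowers _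
      · exact Subgroup.mul_mem _ (Subgroup.mem_zpowers _) (Subgroup.mem_zpowers _)
    exact ⟨(a, b), Subgroup.mem_prod.2 ⟨key a ha, key b hb⟩, rfl⟩
  have h9 : Nat.card ↥(J ⊓ LL) ∣ 9 := by
    rw [← hmap]
    exact Subgroup.card_dvd_of_le hle
  have h2 : LL.relIndex J ∣ 2 := by
    rw [← index_LL]
    exact Subgroup.relIndex_dvd_index_of_normal LL J
  have h3 : Nat.card ↥(J ⊓ LL) * LL.relIndex J = Nat.card ↥J := by
    rw [← Subgroup.relIndex_bot_left, ← Subgroup.relIndex_bot_left, inf_comm, ← Subgroup.inf_relIndex_right LL J]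
    exact Subgroup.relIndex_mul_relIndex _ _ _ bot_le inf_le_right
  rw [← h3]
  exact Nat.mul_dvd_mul h9 h2

/-- **the centralizer of an element of the second type** -/
theorem card_dvd [Finite Cfsg.Spor.HN] {x : PP} (hx : ρ x = φA c0 * φB c0) : Nat.card ↥(CP x) ∣ 576 := by
  let f : ↥(CP x) →* Lq := ρ.comp (CP x).subtype
  have h1 : Nat.card ↥f.ker ∣ 32 := by
    have h2 : Nat.card ↥f.ker = Nat.card ↥(CP x ⊓ ρ.ker) := by
      refine Nat.card_congr
        { toFun := fun v => ⟨(v : ↥(CP x)), (v : ↥(CP x)).2, v.2⟩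
          invFun := fun v => ⟨⟨(v : PP), v.2.1⟩, v.2.2⟩
          left_inv := fun _ => rfl
          right_inv := fun _ => rfl }
    rw [h2]
    exact card_ker_dvd hx
  have h2 : Nat.card ↥f.range ∣ 18 := by
    apply card_image_dvd
    rintro _ ⟨v, rfl⟩
    have h3 : (v : PP) * x = x * v := Subgroup.mem_centralizer_singleton_iff.1 v.2
    change ρ (v : PP) * _ = _ * ρ (v : PP)
    rw [← hx, ← map_mul, h3, map_mul]
  have h3 : Nat.card ↥(CP x) = Nat.card ↥f.ker * Nat.card ↥f.range := by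
    rw [← f.ker.card_mul_index, Subgroup.index_ker]
  rw [h3]
  exact (Nat.mul_dvd_mul h1 h2).trans (by norm_num)

end Cfsg.Agent.CpAutHN.PPFacts

end
end

-- part: CpAutHN/RankOne
section
set_option linter.all false
open scoped Cfsg.Agent.FastGrp

/-!
# Groups of 2-rank one (helper28)

`H` finite, `p` an odd prime, any two commuting involutions of `H` are equal.
* `no_comp`   : if some involution is not in `O_{p'}(H)` then `H / O_{p'}(H)` has no component;
* `comps_of_rank_one` : in general `Comps p (C_H(s))` gives `Comps p H`.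
-/

set_option autoImplicit false

namespace Cfsg.Agent.CpAutHN.RankOne

open Subgroup Cfsg
open Cfsg.Agent.LThree
open Cfsg.Agent.LThree.Red
open Cfsg.Agent.SignalizersComponents

universe u

/-- any two commuting involutions are equal -/
def One (H : Type*) [Group H] : Prop :=
  ∀ a b : H, orderOf a = 2 → orderOf b = 2 → a * b = b * a → a = b

variable {H : Type u} [Group H] [Finite H]

theorem One.subgroup {H : Type*} [Group H] (h : One H) (K : Subgroup H) : One ↥K := by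
  intro a b ha hb hab
  apply Subtype.ext
  apply h
  · rw [Subgroup.orderOf_coe, ha]
  · rw [Subgroup.orderOf_coe, hb]
  · exact congrArg Subtype.val hab

/-- quotients by normal subgroups of odd order -/
theorem One.quotient (h : One H) (R : Subgroup H) [R.Normal] (hR : Odd (Nat.card ↥R)) : One (H ⧸ R) := by
  have : Fact (Nat.Prime 2) := ⟨Nat.prime_two⟩
  intro a b ha hb hab
  obtain ⟨s, hs, hsa⟩ := exists_involution_lift R hR ha
  have h1 := centralizer_mk (r := 2) Nat.prime_two R (Nat.coprime_two_right.2 hR) hs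
  have h2 : b ∈ centralizer ({(QuotientGroup.mk' R s)} : Set (H ⧸ R)) := by
    rw [mem_centralizer_singleton_iff, hsa]
    exact hab.symm
  rw [h1] at h2
  obtain ⟨t, ht, htb⟩ := h2
  have ht' : t * s = s * t := mem_centralizer_singleton_iff.1 ht
  have hb2 : b ^ 2 = 1 := by rw [← hb, pow_orderOf_eq_one]
  have hb1 : b ≠ 1 := by
    rintro rfl
    rw [orderOf_one] at hb
    norm_num at hb
  -- the involution `t ^ |R|`
  have h3 : QuotientGroup.mk' R (t ^ Nat.card ↥R) = b := by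
    obtain ⟨k, hk⟩ := hR
    rw [map_pow, htb, hk, pow_succ, pow_mul, hb2, one_pow, one_mul]
  have h4 : (t ^ Nat.card ↥R) ^ 2 = 1 := by
    have h5 : t ^ 2 ∈ R := by
      rw [← QuotientGroup.eq_one_iff]
      change QuotientGroup.mk' R (t ^ 2) = 1
      rw [map_pow, htb, hb2]
    have h6 : (⟨t ^ 2, h5⟩ : ↥R) ^ Nat.card ↥R = 1 := pow_card_eq_one'
    have h7 := congrArg Subtype.val h6
    change (t ^ 2) ^ Nat.card ↥R = 1 at h7
    rw [← pow_mul, mul_comm, pow_mul]
    exact h7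
  have h5 : orderOf (t ^ Nat.card ↥R) = 2 := by
    apply orderOf_eq_prime h4
    intro h6
    rw [h6, map_one] at h3
    exact hb1 h3.symm
  have h6 : s = t ^ Nat.card ↥R := by
    refine h s _ hs h5 ?_
    exact ((Commute.pow_left (show Commute t s from ht') (Nat.card ↥R)).eq).symm
  rw [← hsa, h6, h3]

/-- all involutions are conjugate -/
theorem One.isConj (h : One H) {a b : H} (ha : orderOf a = 2) (hb : orderOf b = 2) : IsConj a b := by
  have : Fact (Nat.Prime 2) := ⟨Nat.prime_two⟩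
  have hz : ∀ x : H, orderOf x = 2 → ∃ S : Sylow 2 H, x ∈ S := by
    intro x hx
    have h1 : IsPGroup 2 (Subgroup.zpowers x) := IsPGroup.of_card (n := 1) (by rw [Nat.card_zpowers, hx, pow_one])
    obtain ⟨S, hS⟩ := h1.exists_le_sylow
    exact ⟨S, hS (mem_zpowers x)⟩
  -- a Sylow subgroup has only one involution
  have huniq : ∀ (S : Sylow 2 H) (x y : H), x ∈ S → y ∈ S → orderOf x = 2 → orderOf y = 2 → x = y := by
    intro S x y hx hy hx2 hy2
    have hS1 : Nontrivial ↥(S : Subgroup H) := ⟨⟨x, hx⟩, 1, fun h0 => by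
      have h1 : x = 1 := congrArg Subtype.val h0
      rw [h1, orderOf_one] at hx2
      norm_num at hx2⟩
    have hnt := S.isPGroup'.center_nontrivial
    have hpc : IsPGroup 2 ↥(center ↥(S : Subgroup H)) := S.isPGroup'.to_subgroup _
    obtain ⟨n, hn⟩ := IsPGroup.iff_card.1 hpc
    have hn0 : n ≠ 0 := by
      rintro rfl
      rw [pow_zero] at hn
      exact (Finite.one_lt_card_iff_nontrivial.2 hnt).ne' hn
    obtain ⟨c, hc⟩ := exists_prime_orderOf_dvd_card' (G := ↥(center ↥(S : Subgroup H))) 2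
      (by rw [hn]; exact dvd_pow_self 2 hn0)
    have hc2 : orderOf ((c : ↥(S : Subgroup H)) : H) = 2 := by
      rw [Subgroup.orderOf_coe, Subgroup.orderOf_coe, hc]
    have hcomm : ∀ w : H, w ∈ S → w * ((c : ↥(S : Subgroup H)) : H) = ((c : ↥(S : Subgroup H)) : H) * w := by
      intro w hw
      have h1 := mem_center_iff.1 c.2 ⟨w, hw⟩
      exact congrArg Subtype.val h1
    rw [h x _ hx2 hc2 (hcomm x hx), h y _ hy2 hc2 (hcomm y hy)]
  obtain ⟨S, hS⟩ := hz a ha
  obtain ⟨T, hT⟩ := hz b hb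
  obtain ⟨g, rfl⟩ := MulAction.exists_smul_eq H S T
  have h1 : g * a * g⁻¹ ∈ g • S := by
    rw [← SetLike.mem_coe, Sylow.coe_smul]
    exact ⟨a, hS, rfl⟩
  have h2 : orderOf (g * a * g⁻¹) = 2 := by rw [← MulAut.conj_apply, MulEquiv.orderOf_eq, ha]
  exact isConj_iff.2 ⟨g, huniq _ _ _ h1 hT h2 hb⟩

variable {p : ℕ}

/-- in `H` of 2-rank one, an involution outside `O_{p'}(H)`: `O_{p'}(H)` has odd order -/
theorem odd_core (h : One H) {s : H} (hs : orderOf s = 2) (hsR : s ∉ pPrimeCore p H) :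
    Odd (Nat.card ↥(pPrimeCore p H)) := by
  have : Fact (Nat.Prime 2) := ⟨Nat.prime_two⟩
  have hn := Lib.Cores.pPrimeCore_normal (G := H) p
  rw [← Nat.not_even_iff_odd]
  intro he
  obtain ⟨y, hy⟩ := exists_prime_orderOf_dvd_card' 2 (even_iff_two_dvd.1 he)
  have hy2 : orderOf (y : H) = 2 := by rw [Subgroup.orderOf_coe, hy]
  obtain ⟨g, hg⟩ := isConj_iff.1 (h.isConj hy2 hs)
  apply hsR
  rw [← hg]
  exact hn.conj_mem _ y.2 g

/-- a quasisimple group whose centre has odd order is not of 2-rank one -/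
theorem not_one_of_quasisimple (FT : ∀ (K : Type u) [Group K] [Finite K], Odd (Nat.card K) → Group.IsSolvable K)
    {L : Type u} [Group L] [Finite L] (hL : IsQuasisimple L) (hZ : Odd (Nat.card ↥(center L))) : ¬ One L := by
  intro h
  have : Fact (Nat.Prime 2) := ⟨Nat.prime_two⟩
  have heven : Even (Nat.card L) := by
    rw [← Nat.not_odd_iff_even]
    intro ho
    exact Components.quasisimple_not_isSolvable hL (FT _ ho)
  obtain ⟨u, hu⟩ := exists_prime_orderOf_dvd_card' 2 (even_iff_two_dvd.1 heven)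
  have h1 : IsPGroup 2 (Subgroup.zpowers u) := IsPGroup.of_card (n := 1) (by rw [Nat.card_zpowers, hu, pow_one])
  obtain ⟨S, hS⟩ := h1.exists_le_sylow
  have huS : u ∈ S := hS (mem_zpowers u)
  -- the unique involution of `S` is central in `S`
  have hS1 : Nontrivial ↥(S : Subgroup L) := ⟨⟨u, huS⟩, 1, fun h0 => by
    have h1 : u = 1 := congrArg Subtype.val h0
    rw [h1, orderOf_one] at hu
    norm_num at hu⟩
  have hnt := S.isPGroup'.center_nontrivial
  have hpc : IsPGroup 2 ↥(center ↥(S : Subgroup L)) := S.isPGroup'.to_subgroup _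
  obtain ⟨n, hn⟩ := IsPGroup.iff_card.1 hpc
  have hn0 : n ≠ 0 := by
    rintro rfl
    rw [pow_zero] at hn
    exact (Finite.one_lt_card_iff_nontrivial.2 hnt).ne' hn
  obtain ⟨c, hc⟩ := exists_prime_orderOf_dvd_card' (G := ↥(center ↥(S : Subgroup L))) 2
    (by rw [hn]; exact dvd_pow_self 2 hn0)
  have hc2 : orderOf ((c : ↥(S : Subgroup L)) : L) = 2 := by
    rw [Subgroup.orderOf_coe, Subgroup.orderOf_coe, hc]
  have hcomm : ∀ w : L, w ∈ S → w * ((c : ↥(S : Subgroup L)) : L) = ((c : ↥(S : Subgroup L)) : L) * w := by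
    intro w hw
    have h1 := mem_center_iff.1 c.2 ⟨w, hw⟩
    exact congrArg Subtype.val h1
  have huc : u = ((c : ↥(S : Subgroup L)) : L) := h u _ hu hc2 (hcomm u huS)
  obtain ⟨N, hN, hNo, hNc⟩ := Cfsg.Agent.S0215.result S u hu huS (by
    intro g hg
    have h2 : orderOf (g * u * g⁻¹) = 2 := by rw [← MulAut.conj_apply, MulEquiv.orderOf_eq, hu]
    have h3 := h _ _ h2 hc2 (hcomm _ hg)
    rw [h3, huc])
  -- `N ≤ Z(L)`
  have hNZ : N ≤ center L := by
    rcases Components.quasisimple_normal hL N hN with h2 | h2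
    · exfalso
      rw [h2, card_top] at hNo
      exact (Nat.not_even_iff_odd.2 hNo) heven
    · exact h2
  -- `u` is central
  have huZ : u ∈ center L := by
    have h2 : QuotientGroup.mk' (center L) u ∈ center (L ⧸ center L) := by
      rw [mem_center_iff]
      intro y
      obtain ⟨g, rfl⟩ := QuotientGroup.mk'_surjective (center L) y
      have h3 : QuotientGroup.mk' (center L) (u * g * u⁻¹ * g⁻¹) = 1 :=
        (QuotientGroup.eq_one_iff _).2 (hNZ (hNc g))
      rw [map_mul, map_mul, map_mul, map_inv, map_inv] at h3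
      have h4 := mul_inv_eq_one.1 h3
      exact (mul_inv_eq_iff_eq_mul.1 h4).symm
    have hsimp := hL.2
    have h3 : center (L ⧸ center L) = ⊥ := by
      rcases (inferInstance : (center (L ⧸ center L)).Normal).eq_bot_or_eq_top with h4 | h4
      · exact h4
      · exfalso
        have h5 : Group.IsSolvable (L ⧸ center L) := by
          have h6 : ∀ a b : L ⧸ center L, a * b = b * a := fun a b => by
            have h7 : b ∈ center (L ⧸ center L) := by rw [h4]; exact mem_top b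
            exact mem_center_iff.1 h7 a
          exact Group.isSolvable_of_comm h6
        have h6 : Group.IsSolvable ↥(center L) := Group.isSolvable_of_comm fun a b => by
          apply Subtype.ext
          exact (mem_center_iff.1 a.2 b).symm
        exact Components.quasisimple_not_isSolvable hL
          (Group.isSolvable_of_ker_le_range (center L).subtype (QuotientGroup.mk' (center L)) (by
            rw [QuotientGroup.ker_mk', Subgroup.range_subtype]))
    rw [h3, mem_bot] at h2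
    exact (QuotientGroup.eq_one_iff _).1 h2
  have h2 : orderOf (⟨u, huZ⟩ : ↥(center L)) ∣ Nat.card ↥(center L) := orderOf_dvd_natCard _
  rw [← Subgroup.orderOf_coe] at h2
  change orderOf u ∣ _ at h2
  rw [hu] at h2
  exact (Nat.not_even_iff_odd.2 hZ) (even_iff_two_dvd.2 h2)

/-- **no component** -/
theorem no_comp (FT : ∀ (K : Type u) [Group K] [Finite K], Odd (Nat.card K) → Group.IsSolvable K) (hp : p.Prime)
    (hp2 : p ≠ 2) (h : One H) {s : H} (hs : orderOf s = 2) (hsR : s ∉ pPrimeCore p H)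
    (L : Subgroup (H ⧸ pPrimeCore p H)) (hL : IsComponent L) : False := by
  have hn := Lib.Cores.pPrimeCore_normal (G := H) p
  have hodd := odd_core h hs hsR
  have h1 : One (H ⧸ pPrimeCore p H) := h.quotient _ hodd
  refine not_one_of_quasisimple FT hL.2 ?_ (h1.subgroup L)
  have h2 := Red.isPGroup_center_comp hp (Lib.Cores.pPrimeCore_quotient_pPrimeCore p) hL.1
  have : Fact p.Prime := ⟨hp⟩
  obtain ⟨n, hn⟩ := IsPGroup.iff_card.1 h2
  rw [hn]
  exact (hp.odd_of_ne_two hp2).pow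

theorem comps_of_not_mem (FT : ∀ (K : Type u) [Group K] [Finite K], Odd (Nat.card K) → Group.IsSolvable K)
    (hp : p.Prime) (hp2 : p ≠ 2) (h : One H) {s : H} (hs : orderOf s = 2) (hsR : s ∉ pPrimeCore p H) : Comps p H :=
  fun L hL => (no_comp FT hp hp2 h hs hsR L hL).elim

/-- an involution `s` not commuting with a `p`-element is not in `O_{p'}(H)` when it inverts it -/
theorem not_mem_core_of_inverts (hp : p.Prime) (hp2 : p ≠ 2) {s y : H} (hy : y ≠ 1) (hyp : y ^ p = 1)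
    (hsy : s * y * s⁻¹ = y⁻¹) : s ∉ pPrimeCore p H := by
  intro hs
  have hn := Lib.Cores.pPrimeCore_normal (G := H) p
  have h1 : s * (y * s⁻¹ * y⁻¹) ∈ pPrimeCore p H := mul_mem hs (hn.conj_mem _ (inv_mem hs) y)
  have h2 : s * (y * s⁻¹ * y⁻¹) = y⁻¹ * y⁻¹ := by rw [← hsy]; group
  rw [h2] at h1
  have : Fact p.Prime := ⟨hp⟩
  have hord : orderOf y = p := orderOf_eq_prime hyp hy
  have h3 : orderOf (y⁻¹ * y⁻¹) = p := by
    have h4 : y⁻¹ * y⁻¹ = (y ^ 2)⁻¹ := by rw [pow_two, mul_inv_rev]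
    rw [h4, orderOf_inv]
    have h5 : (orderOf y).Coprime 2 := by
      rw [hord]
      exact (Nat.coprime_primes hp Nat.prime_two).2 hp2
    rw [h5.orderOf_pow, hord]
  have h4 : orderOf (⟨_, h1⟩ : ↥(pPrimeCore p H)) ∣ Nat.card ↥(pPrimeCore p H) := orderOf_dvd_natCard _
  rw [← Subgroup.orderOf_coe] at h4
  change orderOf (y⁻¹ * y⁻¹) ∣ _ at h4
  rw [h3] at h4
  have h5 := Lib.Cores.pPrimeCore_coprime (G := H) p
  exact (Nat.Prime.coprime_iff_not_dvd hp).1 h5.symm h4

end Cfsg.Agent.CpAutHN.RankOne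
end

-- part: CpAutHN/Pairs
section
prune_inst 0x20100400202200000000000020000020000000020000000100400000000180410000000032000000010080202008800001000009421000002a008a00000400000400024090480000000000400004000000000000000000000000000000000000000000000
set_option linter.all false
open scoped Cfsg.Agent.FastGrp

-- merged: Cfsg.Agent.CpAutHN.Tr
section

/-!
# Traces of four elements of `A12 ≤ HN` in the 133-dimensional representation over the field with 31 elements

`tr` is a class function of the presented group `Cfsg.Spor.HN`; with `e i` (`i < 10`) the ten Carmichael generators of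
the subgroup `A12` (`e i` is the 3-cycle `(i 10 11)`):
* `tr_one` : a 3-cycle has trace `7`;
* `tr_two` : an element of cycle type `2^2` has trace `21`;
* `tr_four` : an element of cycle type `2^4` has trace `5`;
* `tr_three` : an element of cycle type `3^3` has trace `29`.
-/

set_option autoImplicit false

namespace Cfsg.Agent.CpAutHN.Tr

open Cfsg.Agent.Lib.PackMat Cfsg.Agent.Lib.PackMatGroup Cfsg.Agent.Lib.PackMatMul Cfsg.Agent.HN.RepData
open Cfsg.Agent.HN.Rep (L LG gens rho)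
open Cfsg.Agent.HN.A12 (ws results)
open Cfsg.Agent.HN.A12Step (L20)
open Cfsg.Agent.HN.A12Group (a e rho_e)
open Cfsg.Agent.HN.Trace

/-- the trace -/
noncomputable def tr (g : Cfsg.Spor.HN) : ZMod 31 := Matrix.trace ((rho g : U C) : M C)

theorem tr_conj {g h : Cfsg.Spor.HN} (H : IsConj g h) : tr g = tr h := by
  obtain ⟨c, rfl⟩ := isConj_iff.1 H
  unfold tr
  rw [map_mul, map_mul, map_inv, Units.val_mul, Units.val_mul]
  exact (Matrix.trace_units_conj (rho c) _).symm

theorem codes : List.Forall₂ (Codes C) (runG ws LG) L20 :=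
  results.imp fun _ _ h => h.codes (good_of_check Cfsg.Agent.HN.Rep.good)

/-- words in the ten generators -/
noncomputable def ew (l : List ℕ) : Cfsg.Spor.HN := (l.map e).prod

theorem getD_eq {i : ℕ} : (runG ws LG).getD (9 - i) 1 = a i := rfl

theorem rho_ew (l : List ℕ) : rho (ew l) = evG (runG ws LG) (l.map fun i => 9 - i) := by
  induction l with
  | nil => exact map_one _
  | cons i l ih =>
    rw [List.map_cons, evG_cons, ← ih, getD_eq, ← rho_e]
    exact map_mul _ _ _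

theorem c1 : checkTr C (cw L20 [9]) 0 133 2115 = true :=
  Cfsg.Agent.HN.TraceFast.of_chk (L := [(0, 133, 2115)]) (by decide +kernel) (.head _)
theorem c2 : checkTr C (cw L20 [9, 8]) 0 133 1974 = true :=
  Cfsg.Agent.HN.TraceFast.of_chk (L := [(0, 133, 1974)]) (by decide +kernel) (.head _)
theorem c4 : checkTr C (cw L20 [9, 8, 7, 6, 9, 8, 5, 4]) 0 133 1958 = true :=
  Cfsg.Agent.HN.TraceFast.of_chk (L := [(0, 133, 1958)]) (by decide +kernel) (.head _)
theorem c3 : checkTr C (cw L20 [9, 8, 7, 9, 8, 6, 5, 4, 3]) 0 133 1889 = true :=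
  Cfsg.Agent.HN.TraceFast.of_chk (L := [(0, 133, 1889)]) (by decide +kernel) (.head _)

theorem tr_one : tr (ew [0]) = 7 := by
  unfold tr
  rw [rho_ew, List.map_cons, List.map_nil,
    trace_of_chunks Cfsg.Agent.HN.Rep.good Cfsg.Agent.HN.Rep.one_lt codes (by decide) [(133, 2115)] (by decide)
      ⟨c1, trivial⟩]
  decide

theorem tr_two : tr (ew [0, 1]) = 21 := by
  unfold tr
  rw [rho_ew, show ([0, 1].map fun i => 9 - i) = [9, 8] from rfl,
    trace_of_chunks Cfsg.Agent.HN.Rep.good Cfsg.Agent.HN.Rep.one_lt codes (by decide) [(133, 1974)] (by decide)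
      ⟨c2, trivial⟩]
  decide

theorem tr_four : tr (ew [0, 1, 2, 3, 0, 1, 4, 5]) = 5 := by
  unfold tr
  rw [rho_ew, show ([0, 1, 2, 3, 0, 1, 4, 5].map fun i => 9 - i) = [9, 8, 7, 6, 9, 8, 5, 4] from rfl,
    trace_of_chunks Cfsg.Agent.HN.Rep.good Cfsg.Agent.HN.Rep.one_lt codes (by decide) [(133, 1958)] (by decide)
      ⟨c4, trivial⟩]
  decide

theorem tr_three : tr (ew [0, 1, 2, 0, 1, 3, 4, 5, 6]) = 29 := by
  unfold tr
  rw [rho_ew, show ([0, 1, 2, 0, 1, 3, 4, 5, 6].map fun i => 9 - i) = [9, 8, 7, 9, 8, 6, 5, 4, 3] from rfl,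
    trace_of_chunks Cfsg.Agent.HN.Rep.good Cfsg.Agent.HN.Rep.one_lt codes (by decide) [(133, 1889)] (by decide)
      ⟨c3, trivial⟩]
  decide

end Cfsg.Agent.CpAutHN.Tr

end

-- merged: Cfsg.Agent.CpAutHN.Alt
section

/-!
# The subgroup `A12` of HN: explicit elements

`Φ : A12 →* HN` (HN assumed simple) is injective; explicit permutations and their traces.
-/

set_option autoImplicit false

namespace Cfsg.Agent.CpAutHN.Alt

open Cfsg.Agent.Lib.AltCarmichael (Rel exists_hom cyc cyc_mem gen)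
open Cfsg.Agent.HN.A12Group (e rel_e e4_ne)
open Cfsg.Agent.CpAutHN.Tr
open Equiv.Perm (mem_alternatingGroup)

/-- the alternating group of degree 12 -/
abbrev A12 : Type := alternatingGroup (Fin 12)

/-- the product of the word `l` in the 3-cycles `(i 10 11)` -/
def wp (l : List ℕ) : Equiv.Perm (Fin 12) := (l.map (cyc 10)).prod

theorem wp_mem {l : List ℕ} (hl : ∀ i ∈ l, i < 10) : wp l ∈ alternatingGroup (Fin 12) := by
  induction l with
  | nil => exact Subgroup.one_mem _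
  | cons i l ih =>
    have h1 : wp (i :: l) = cyc 10 i * wp l := rfl
    rw [h1]
    exact Subgroup.mul_mem _ (cyc_mem 10 i (hl i List.mem_cons_self))
      (ih fun j hj => hl j (List.mem_cons_of_mem _ hj))

section Simple

variable [IsSimpleGroup Cfsg.Spor.HN]

/-- the embedding of `A12` -/
noncomputable def Φ : A12 →* Cfsg.Spor.HN := (exists_hom (m := 10) (by norm_num) rel_e).choose

theorem Φ_cyc {i : ℕ} (hi : i < 10) : Φ ⟨cyc 10 i, cyc_mem 10 i hi⟩ = e i :=
  (exists_hom (m := 10) (by norm_num) rel_e).choose_spec i hi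

theorem Φ_inj : Function.Injective Φ := by
  have : IsSimpleGroup A12 := alternatingGroup.isSimpleGroup (by
    rw [Nat.card_eq_fintype_card, Fintype.card_fin]; norm_num)
  rw [← MonoidHom.ker_eq_bot_iff]
  rcases (inferInstance : (Φ).ker.Normal).eq_bot_or_eq_top with h | h
  · exact h
  · exfalso
    apply e4_ne
    rw [← Φ_cyc (by norm_num), ← MonoidHom.mem_ker, h]
    exact Subgroup.mem_top _

theorem Φ_wp {l : List ℕ} (hl : ∀ i ∈ l, i < 10) : Φ ⟨wp l, wp_mem hl⟩ = ew l := by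
  induction l with
  | nil => exact map_one _
  | cons i l ih =>
    have hi := hl i List.mem_cons_self
    have hl' : ∀ j ∈ l, j < 10 := fun j hj => hl j (List.mem_cons_of_mem _ hj)
    have h1 : (⟨wp (i :: l), wp_mem hl⟩ : A12) = ⟨cyc 10 i, cyc_mem 10 i hi⟩ * ⟨wp l, wp_mem hl'⟩ := rfl
    rw [h1, map_mul, Φ_cyc hi, ih hl']
    rfl

/-- the trace of a permutation conjugate in `A12` to a word -/
theorem tr_of {l : List ℕ} (hl : ∀ i ∈ l, i < 10) {f g : Equiv.Perm (Fin 12)} (hf : f ∈ alternatingGroup (Fin 12))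
    (hg : g ∈ alternatingGroup (Fin 12)) (h : g * wp l = f * g) : tr (Φ ⟨f, hf⟩) = tr (ew l) := by
  apply tr_conj
  rw [← Φ_wp hl]
  refine (isConj_iff.2 ⟨Φ ⟨g, hg⟩, ?_⟩ : IsConj (Φ ⟨wp l, wp_mem hl⟩) (Φ ⟨f, hf⟩)).symm
  rw [mul_inv_eq_iff_eq_mul, ← map_mul, ← map_mul]
  exact congrArg _ (Subtype.ext h)

end Simple

/-! ### the permutations -/

/-- cycle -/
def cy (l : List (Fin 12)) : Equiv.Perm (Fin 12) := l.formPerm

/-- `(0 1)(2 3)` -/
def t2 : Equiv.Perm (Fin 12) := cy [0, 1] * cy [2, 3]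
/-- `(4 5 6 7 8 9 10)` -/
def c7 : Equiv.Perm (Fin 12) := cy [4, 5, 6, 7, 8, 9, 10]
/-- `(4 5 6)` -/
def ca : Equiv.Perm (Fin 12) := cy [4, 5, 6]
/-- `(7 8 9)` -/
def cb : Equiv.Perm (Fin 12) := cy [7, 8, 9]
/-- commutes with `ca`, `t2` -/
def sA : Equiv.Perm (Fin 12) := cy [0, 1] * cy [2, 3] * cy [7, 8] * cy [9, 10]
/-- commutes with `cb`, `t2` -/
def sB : Equiv.Perm (Fin 12) := cy [0, 1] * cy [2, 3] * cy [4, 5] * cy [6, 10]
/-- commutes with `ca * cb`, `t2` -/
def sC : Equiv.Perm (Fin 12) := cy [4, 7] * cy [5, 8] * cy [6, 9] * cy [0, 1]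
/-- commutes with `ca * cb⁻¹`, `t2` -/
def sD : Equiv.Perm (Fin 12) := cy [4, 7] * cy [5, 9] * cy [6, 8] * cy [0, 1]
/-- `(0 1 2)(3 4 5)(6 7 8)` -/
def x3 : Equiv.Perm (Fin 12) := cy [0, 1, 2] * cy [3, 4, 5] * cy [6, 7, 8]
/-- commutes with `x3`, inverts `y3` -/
def s3 : Equiv.Perm (Fin 12) := cy [0, 3] * cy [1, 4] * cy [2, 5] * cy [9, 10]
/-- `(0 1 2)(3 5 4)` -/
def y3 : Equiv.Perm (Fin 12) := cy [0, 1, 2] * cy [3, 5, 4]
/-- `(9 10 11)` -/
def x1 : Equiv.Perm (Fin 12) := cy [9, 10, 11]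
/-- `(0 1)(2 3)(4 5)(6 7)` -/
def s1 : Equiv.Perm (Fin 12) := cy [0, 1] * cy [2, 3] * cy [4, 5] * cy [6, 7]

theorem t2_mem : t2 ∈ alternatingGroup (Fin 12) := by rw [mem_alternatingGroup]; decide +kernel
theorem c7_mem : c7 ∈ alternatingGroup (Fin 12) := by rw [mem_alternatingGroup]; decide +kernel
theorem ca_mem : ca ∈ alternatingGroup (Fin 12) := by rw [mem_alternatingGroup]; decide +kernel
theorem cb_mem : cb ∈ alternatingGroup (Fin 12) := by rw [mem_alternatingGroup]; decide +kernel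
theorem sA_mem : sA ∈ alternatingGroup (Fin 12) := by rw [mem_alternatingGroup]; decide +kernel
theorem sB_mem : sB ∈ alternatingGroup (Fin 12) := by rw [mem_alternatingGroup]; decide +kernel
theorem sC_mem : sC ∈ alternatingGroup (Fin 12) := by rw [mem_alternatingGroup]; decide +kernel
theorem sD_mem : sD ∈ alternatingGroup (Fin 12) := by rw [mem_alternatingGroup]; decide +kernel
theorem x3_mem : x3 ∈ alternatingGroup (Fin 12) := by rw [mem_alternatingGroup]; decide +kernel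
theorem s3_mem : s3 ∈ alternatingGroup (Fin 12) := by rw [mem_alternatingGroup]; decide +kernel
theorem y3_mem : y3 ∈ alternatingGroup (Fin 12) := by rw [mem_alternatingGroup]; decide +kernel
theorem x1_mem : x1 ∈ alternatingGroup (Fin 12) := by rw [mem_alternatingGroup]; decide +kernel
theorem s1_mem : s1 ∈ alternatingGroup (Fin 12) := by rw [mem_alternatingGroup]; decide +kernel

section Simple

variable [IsSimpleGroup Cfsg.Spor.HN]

theorem tr_t2 : tr (Φ ⟨t2, t2_mem⟩) = 21 := by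
  rw [tr_of (l := [0, 1]) (by decide) (g := cy [1, 2, 5, 7, 9, 11, 3, 4, 6, 8, 10]) t2_mem
    (by rw [mem_alternatingGroup]; decide +kernel) (by decide +kernel), tr_two]

theorem tr_sA : tr (Φ ⟨sA, sA_mem⟩) = 5 := by
  rw [tr_of (l := [0, 1, 2, 3, 0, 1, 4, 5]) (by decide) (g := cy [1, 2] * cy [4, 7, 5, 9, 11, 10, 8, 6]) sA_mem
    (by rw [mem_alternatingGroup]; decide +kernel) (by decide +kernel), tr_four]

theorem tr_sB : tr (Φ ⟨sB, sB_mem⟩) = 5 := by
  rw [tr_of (l := [0, 1, 2, 3, 0, 1, 4, 5]) (by decide) (g := cy [1, 2] * cy [5, 6, 8, 9, 11, 10]) sB_mem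
    (by rw [mem_alternatingGroup]; decide +kernel) (by decide +kernel), tr_four]

theorem tr_sC : tr (Φ ⟨sC, sC_mem⟩) = 5 := by
  rw [tr_of (l := [0, 1, 2, 3, 0, 1, 4, 5]) (by decide) (g := cy [1, 4, 5, 6, 3, 7, 2] * cy [8, 10] * cy [9, 11])
    sC_mem (by rw [mem_alternatingGroup]; decide +kernel) (by decide +kernel), tr_four]

theorem tr_sD : tr (Φ ⟨sD, sD_mem⟩) = 5 := by
  rw [tr_of (l := [0, 1, 2, 3, 0, 1, 4, 5]) (by decide) (g := cy [1, 4, 5, 6, 2] * cy [3, 7] * cy [8, 10, 9, 11])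
    sD_mem (by rw [mem_alternatingGroup]; decide +kernel) (by decide +kernel), tr_four]

theorem tr_s3 : tr (Φ ⟨s3, s3_mem⟩) = 5 := by
  rw [tr_of (l := [0, 1, 2, 3, 0, 1, 4, 5]) (by decide) (g := cy [2, 3, 4] * cy [5, 9, 11, 10] * cy [6, 7])
    s3_mem (by rw [mem_alternatingGroup]; decide +kernel) (by decide +kernel), tr_four]

theorem tr_s1 : tr (Φ ⟨s1, s1_mem⟩) = 5 := by
  rw [tr_of (l := [0, 1, 2, 3, 0, 1, 4, 5]) (by decide) (g := cy [1, 2] * cy [5, 6, 8, 10] * cy [7, 9, 11])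
    s1_mem (by rw [mem_alternatingGroup]; decide +kernel) (by decide +kernel), tr_four]

theorem tr_x3 : tr (Φ ⟨x3, x3_mem⟩) = 29 := by
  rw [tr_of (l := [0, 1, 2, 0, 1, 3, 4, 5, 6]) (by decide) (g := cy [4, 6, 8, 9, 11, 7, 10])
    x3_mem (by rw [mem_alternatingGroup]; decide +kernel) (by decide +kernel), tr_three]

theorem tr_x1 : tr (Φ ⟨x1, x1_mem⟩) = 7 := by
  rw [tr_of (l := [0]) (by decide) (g := cy [0, 9, 8, 7, 6, 5, 4, 3, 2])
    x1_mem (by rw [mem_alternatingGroup]; decide +kernel) (by decide +kernel), tr_one]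

end Simple

end Cfsg.Agent.CpAutHN.Alt

end

-- merged: Cfsg.Agent.CpAutHN.Pairs
section

/-!
# Pairs `(x, s)` of commuting elements of HN, `x` of order 3, `s` conjugate to `W0`

* `exists_two` : an element of order 3 which commutes with an involution commutes with a conjugate of `W0`;
* `T1`, `T2` : the two types of pairs; pairs of the same type are conjugate (`T1.conj`, `T2.conj`), every pair has a
  type (`T1_or_T2`);
* `t1_x3`, `t2_x1` : representatives in `A12`;
* `comps_T1` : `Comps 3 C(x)` for the first type.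
-/

set_option autoImplicit false

namespace Cfsg.Agent.CpAutHN.Pairs

open Cfsg.Agent.HN.Pres Cfsg.Agent.HN.P1408 Cfsg.Agent.HN.H0Basic
open Cfsg.Agent.HN.XWords (W0 W0_sq)
open Cfsg.Agent
open Cfsg.Agent.KFacts.HN (PP mem_PP ρ φA φB W0_ne A5)
open Cfsg.Agent.KFacts.HN.Classes
open Cfsg.Agent.CpAutHN.LqFacts
open Cfsg.Agent.CpAutHN.PPFacts
open Cfsg.Agent.CpAutHN.Alt
open Cfsg.Agent.CpAutHN.Tr
open Subgroup

/-- the group -/
abbrev G : Type := Cfsg.Spor.HN

instance instSimple : IsSimpleGroup G := Cfsg.Agent.S1701.result.1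

/-! ### involutions -/

theorem orderOf_two {f : Equiv.Perm (Fin 12)} (hf : f ∈ alternatingGroup (Fin 12)) (h1 : f * f = 1) (h2 : f ≠ 1) :
    orderOf (Φ ⟨f, hf⟩) = 2 := by
  rw [orderOf_injective Φ Φ_inj]
  apply orderOf_eq_prime
  · apply Subtype.ext
    rw [pow_two]
    exact h1
  · intro h
    exact h2 (congrArg Subtype.val h)

theorem orderOf_three {f : Equiv.Perm (Fin 12)} (hf : f ∈ alternatingGroup (Fin 12)) (h1 : f * f * f = 1)
    (h2 : f ≠ 1) : orderOf (Φ ⟨f, hf⟩) = 3 := by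
  rw [orderOf_injective Φ Φ_inj]
  apply orderOf_eq_prime
  · apply Subtype.ext
    rw [pow_succ, pow_two]
    exact h1
  · intro h
    exact h2 (congrArg Subtype.val h)

/-- the image of `(0 1)(2 3)` -/
noncomputable def tt : G := Φ ⟨t2, t2_mem⟩

theorem order_tt : orderOf tt = 2 := orderOf_two t2_mem (by decide +kernel) (by decide +kernel)

theorem comm_of {f g : Equiv.Perm (Fin 12)} (hf : f ∈ alternatingGroup (Fin 12)) (hg : g ∈ alternatingGroup (Fin 12))
    (h : f * g = g * f) : Φ ⟨f, hf⟩ * Φ ⟨g, hg⟩ = Φ ⟨g, hg⟩ * Φ ⟨f, hf⟩ := by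
  rw [← map_mul, ← map_mul]
  exact congrArg _ (Subtype.ext h)

theorem seven : 7 ∣ Nat.card ↥(centralizer ({tt} : Set G)) := by
  have h1 : orderOf (Φ ⟨c7, c7_mem⟩) = 7 := by
    have : Fact (Nat.Prime 7) := ⟨by norm_num⟩
    rw [orderOf_injective Φ Φ_inj]
    apply orderOf_eq_prime
    · apply Subtype.ext
      change c7 ^ 7 = 1
      decide +kernel
    · intro h
      have h2 : c7 = 1 := (congrArg Subtype.val h :)
      exact absurd h2 (by decide +kernel)
  have h2 : Φ ⟨c7, c7_mem⟩ ∈ centralizer ({tt} : Set G) :=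
    mem_centralizer_singleton_iff.2 (comm_of c7_mem t2_mem (by decide +kernel))
  have h3 : orderOf (⟨Φ ⟨c7, c7_mem⟩, h2⟩ : ↥(centralizer ({tt} : Set G))) ∣
      Nat.card ↥(centralizer ({tt} : Set G)) := _root_.orderOf_dvd_natCard _
  rw [← Subgroup.orderOf_coe] at h3
  change orderOf (Φ ⟨c7, c7_mem⟩) ∣ _ at h3
  rwa [h1] at h3

theorem card_cent_conj {g h : G} (H : IsConj g h) :
    Nat.card ↥(centralizer ({g} : Set G)) = Nat.card ↥(centralizer ({h} : Set G)) := by
  obtain ⟨c, rfl⟩ := isConj_iff.1 H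
  have h1 : centralizer ({c * g * c⁻¹} : Set G) = (centralizer ({g} : Set G)).map (MulAut.conj c).toMonoidHom := by
    ext y
    rw [mem_centralizer_singleton_iff, mem_map]
    constructor
    · intro hy
      refine ⟨c⁻¹ * y * c, ?_, ?_⟩
      · rw [mem_centralizer_singleton_iff]
        calc c⁻¹ * y * c * g = c⁻¹ * (y * (c * g * c⁻¹)) * c := by group
          _ = c⁻¹ * (c * g * c⁻¹ * y) * c := by rw [hy]
          _ = g * (c⁻¹ * y * c) := by group
      · change c * (c⁻¹ * y * c) * c⁻¹ = y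
        group
    · rintro ⟨z, hz, rfl⟩
      rw [mem_centralizer_singleton_iff] at hz
      change c * z * c⁻¹ * (c * g * c⁻¹) = c * g * c⁻¹ * (c * z * c⁻¹)
      calc c * z * c⁻¹ * (c * g * c⁻¹) = c * (z * g) * c⁻¹ := by group
        _ = c * (g * z) * c⁻¹ := by rw [hz]
        _ = _ := by group
  rw [h1]
  exact Nat.card_congr ((centralizer ({g} : Set G)).equivMapOfInjective _ (MulAut.conj c).injective).toEquiv

theorem isConj_tt : IsConj tt (Cfsg.Agent.HN.NormalH.ψ τ) := by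
  rcases inv_class order_tt with h | h
  · exact h
  · exfalso
    have h1 := seven
    rw [card_cent_conj h, Cfsg.Agent.KFacts.HN.PCard.card_centralizer] at h1
    norm_num at h1

/-- involutions of trace 5 are conjugate to `W0` -/
theorem isConj_W0_of_tr {s : G} (h2 : orderOf s = 2) (ht : _root_.Cfsg.Agent.CpAutHN.Tr.tr s = 5) : IsConj s W0 := by
  rcases inv_class h2 with h | h
  · exfalso
    have h1 := tr_conj (h.trans isConj_tt.symm)
    rw [ht] at h1
    have h3 : _root_.Cfsg.Agent.CpAutHN.Tr.tr tt = 21 := tr_t2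
    rw [h3] at h1
    exact absurd h1 (by decide)
  · exact h

/-! ### the centralizer of `tt` -/

/-- the subgroup of order 9 of `A12` -/
noncomputable def nine : ↥(zpowers (⟨ca, ca_mem⟩ : A12)) × ↥(zpowers (⟨cb, cb_mem⟩ : A12)) →* A12 :=
  (zpowers (⟨ca, ca_mem⟩ : A12)).subtype.noncommCoprod (zpowers (⟨cb, cb_mem⟩ : A12)).subtype (by
    rintro ⟨_, i, rfl⟩ ⟨_, j, rfl⟩
    have h : Commute (⟨ca, ca_mem⟩ : A12) ⟨cb, cb_mem⟩ := by
      apply Subtype.ext
      change ca * cb = cb * ca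
      decide +kernel
    exact (h.zpow_left i).zpow_right j)

theorem order_ca : orderOf (⟨ca, ca_mem⟩ : A12) = 3 := by
  rw [← orderOf_injective Φ Φ_inj]
  exact orderOf_three ca_mem (by decide +kernel) (by decide +kernel)

theorem order_cb : orderOf (⟨cb, cb_mem⟩ : A12) = 3 := by
  rw [← orderOf_injective Φ Φ_inj]
  exact orderOf_three cb_mem (by decide +kernel) (by decide +kernel)

theorem exists_pow {a : A12} (ha : orderOf a = 3) {b : A12} (hb : b ∈ zpowers a) : ∃ i < 3, b = a ^ i := by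
  obtain ⟨i, hi⟩ := (isOfFinOrder_of_finite a).mem_powers_iff_mem_zpowers.2 hb
  refine ⟨i % 3, Nat.mod_lt _ (by norm_num), ?_⟩
  rw [← hi, ← ha]
  exact (pow_mod_orderOf a i).symm

theorem nine_apply (u : ↥(zpowers (⟨ca, ca_mem⟩ : A12)) × ↥(zpowers (⟨cb, cb_mem⟩ : A12))) :
    nine u = (u.1 : A12) * u.2 := rfl

theorem chk9 : ∀ i < 3, ∀ j < 3, ca ^ i * cb ^ j = 1 → i = 0 ∧ j = 0 := by decide +kernel

theorem nine_inj : Function.Injective nine := by
  rw [injective_iff_map_eq_one]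
  rintro ⟨⟨a, ha⟩, ⟨b, hb⟩⟩ h
  rw [nine_apply] at h
  obtain ⟨i, hi, rfl⟩ := exists_pow order_ca ha
  obtain ⟨j, hj, rfl⟩ := exists_pow order_cb hb
  obtain ⟨rfl, rfl⟩ := chk9 i hi j hj (congrArg Subtype.val h)
  apply Prod.ext
  · apply Subtype.ext
    exact pow_zero _
  · apply Subtype.ext
    exact pow_zero _

theorem card_nine : Nat.card ↥(nine.range) = 9 := by
  rw [← Nat.card_congr (MonoidHom.ofInjective nine_inj).toEquiv, Nat.card_prod, Nat.card_zpowers, Nat.card_zpowers,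
    order_ca, order_cb]

theorem chkT : ∀ i < 3, ∀ j < 3, ca ^ i * cb ^ j * t2 = t2 * (ca ^ i * cb ^ j) := by decide +kernel

theorem chkS : ∀ i < 3, ∀ j < 3, ca ^ i * cb ^ j * sA = sA * (ca ^ i * cb ^ j) ∨
    ca ^ i * cb ^ j * sB = sB * (ca ^ i * cb ^ j) ∨ ca ^ i * cb ^ j * sC = sC * (ca ^ i * cb ^ j) ∨
    ca ^ i * cb ^ j * sD = sD * (ca ^ i * cb ^ j) := by decide +kernel

theorem mem_nine {p : A12} (hp : p ∈ nine.range) : ∃ i < 3, ∃ j < 3, (p : Equiv.Perm (Fin 12)) = ca ^ i * cb ^ j := by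
  obtain ⟨⟨⟨a, ha⟩, ⟨b, hb⟩⟩, rfl⟩ := hp
  obtain ⟨i, hi, rfl⟩ := exists_pow order_ca ha
  obtain ⟨j, hj, rfl⟩ := exists_pow order_cb hb
  exact ⟨i, hi, j, hj, rfl⟩

theorem comm_of_nine {p : A12} (hp : p ∈ nine.range) : Φ p * tt = tt * Φ p := by
  obtain ⟨i, hi, j, hj, h⟩ := mem_nine hp
  have h1 : (p : Equiv.Perm (Fin 12)) * t2 = t2 * p := by rw [h]; exact chkT i hi j hj
  exact comm_of p.2 t2_mem h1

theorem exists_of_nine {p : A12} (hp : p ∈ nine.range) : ∃ s : G, IsConj s W0 ∧ Φ p * s = s * Φ p := by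
  obtain ⟨i, hi, j, hj, h⟩ := mem_nine hp
  rcases chkS i hi j hj with h1 | h1 | h1 | h1 <;> rw [← h] at h1
  · exact ⟨Φ ⟨sA, sA_mem⟩, isConj_W0_of_tr (orderOf_two sA_mem (by decide +kernel) (by decide +kernel)) tr_sA,
      comm_of p.2 sA_mem h1⟩
  · exact ⟨Φ ⟨sB, sB_mem⟩, isConj_W0_of_tr (orderOf_two sB_mem (by decide +kernel) (by decide +kernel)) tr_sB,
      comm_of p.2 sB_mem h1⟩
  · exact ⟨Φ ⟨sC, sC_mem⟩, isConj_W0_of_tr (orderOf_two sC_mem (by decide +kernel) (by decide +kernel)) tr_sC,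
      comm_of p.2 sC_mem h1⟩
  · exact ⟨Φ ⟨sD, sD_mem⟩, isConj_W0_of_tr (orderOf_two sD_mem (by decide +kernel) (by decide +kernel)) tr_sD,
      comm_of p.2 sD_mem h1⟩

/-- the subgroup of order 9 of `C(tt)` -/
noncomputable def N9 : Subgroup ↥(centralizer ({tt} : Set G)) := (nine.range.map Φ).subgroupOf _

theorem card_N9 : Nat.card ↥N9 = 9 := by
  have hle : nine.range.map Φ ≤ centralizer ({tt} : Set G) := by
    rintro _ ⟨p, hp, rfl⟩
    exact mem_centralizer_singleton_iff.2 (comm_of_nine hp)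
  rw [N9, Nat.card_congr (subgroupOfEquivOfLe hle).toEquiv, ← card_nine]
  exact (Nat.card_congr (nine.range.equivMapOfInjective Φ Φ_inj).toEquiv).symm

theorem card_cent_tt : Nat.card ↥(centralizer ({tt} : Set G)) = 177408000 := by
  rw [card_cent_conj isConj_tt, card_centralizer_τ]

open scoped Pointwise in
/-- an element of order 3 of `C(tt)` commutes with a conjugate of `W0` -/
theorem exists_of_comm_tt {x : G} (h3 : orderOf x = 3) (hx : x * tt = tt * x) :
    ∃ s : G, IsConj s W0 ∧ x * s = s * x := by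
  have : Fact (Nat.Prime 3) := ⟨by norm_num⟩
  have hxC : x ∈ centralizer ({tt} : Set G) := mem_centralizer_singleton_iff.2 hx
  have hf : (Nat.card ↥(centralizer ({tt} : Set G))).factorization 3 = 2 := by
    rw [card_cent_tt, show (177408000 : ℕ) = 3 ^ 2 * 19712000 by norm_num]
    have h2 : (19712000 : ℕ).factorization 3 = 0 := Nat.factorization_eq_zero_of_not_dvd (by norm_num)
    rw [Nat.factorization_mul (by norm_num) (by norm_num), Nat.Prime.factorization_pow Nat.prime_three,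
      Finsupp.add_apply, h2, Finsupp.single_eq_same]
  let S : Sylow 3 ↥(centralizer ({tt} : Set G)) := Sylow.ofCard N9 (by rw [hf, card_N9]; norm_num)
  have hP : IsPGroup 3 ↥(zpowers (⟨x, hxC⟩ : ↥(centralizer ({tt} : Set G)))) :=
    IsPGroup.of_card (n := 1) (by rw [Nat.card_zpowers, ← Subgroup.orderOf_coe, pow_one]; exact h3)
  obtain ⟨T, hT⟩ := hP.exists_le_sylow
  obtain ⟨g, hg⟩ := MulAction.exists_smul_eq ↥(centralizer ({tt} : Set G)) S T
  have h1 : (⟨x, hxC⟩ : ↥(centralizer ({tt} : Set G))) ∈ (T : Subgroup _) := hT (mem_zpowers _)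
  rw [← hg] at h1
  have h2 : g⁻¹ * ⟨x, hxC⟩ * g ∈ N9 := by
    have h4 : (⟨x, hxC⟩ : ↥(centralizer ({tt} : Set G))) ∈ MulAut.conj g • (S : Subgroup _) := h1
    rw [Subgroup.mem_pointwise_smul_iff_inv_smul_mem] at h4
    have h5 : (MulAut.conj g)⁻¹ • (⟨x, hxC⟩ : ↥(centralizer ({tt} : Set G))) = g⁻¹ * ⟨x, hxC⟩ * g := by
      rw [← map_inv, MulAut.smul_def, MulAut.conj_apply, inv_inv]
    rwa [h5] at h4
  obtain ⟨p, hp, hpx⟩ : ∃ p ∈ nine.range, Φ p = (g : G)⁻¹ * x * g := h2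
  obtain ⟨s, hs, hps⟩ := exists_of_nine hp
  refine ⟨g * s * (g : G)⁻¹, (isConj_iff.2 ⟨(g : G), rfl⟩ : IsConj s _).symm.trans hs, ?_⟩
  have h6 : x = g * Φ p * (g : G)⁻¹ := by rw [hpx]; group
  rw [h6]
  calc (g : G) * Φ p * (g : G)⁻¹ * (g * s * (g : G)⁻¹) = g * (Φ p * s) * (g : G)⁻¹ := by group
    _ = g * (s * Φ p) * (g : G)⁻¹ := by rw [hps]
    _ = _ := by group

/-- **an element of order 3 commuting with an involution commutes with a conjugate of `W0`** -/
theorem exists_two {x u : G} (h3 : orderOf x = 3) (h2 : orderOf u = 2) (hxu : x * u = u * x) :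
    ∃ s : G, IsConj s W0 ∧ x * s = s * x := by
  rcases inv_class h2 with h | h
  · obtain ⟨g, hg⟩ := isConj_iff.1 (h.trans isConj_tt.symm)
    have h4 : orderOf (g * x * g⁻¹) = 3 := by
      rw [← h3]
      exact MulEquiv.orderOf_eq (MulAut.conj g) x
    obtain ⟨s, hs, hc⟩ := exists_of_comm_tt h4 (by
      rw [← hg]
      calc g * x * g⁻¹ * (g * u * g⁻¹) = g * (x * u) * g⁻¹ := by group
        _ = g * (u * x) * g⁻¹ := by rw [hxu]
        _ = _ := by group)
    refine ⟨g⁻¹ * s * g, (isConj_iff.2 ⟨g, by group⟩ : IsConj (g⁻¹ * s * g) s).trans hs, ?_⟩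
    calc x * (g⁻¹ * s * g) = g⁻¹ * (g * x * g⁻¹ * s) * g := by group
      _ = g⁻¹ * (s * (g * x * g⁻¹)) * g := by rw [hc]
      _ = _ := by group
  · exact ⟨u, h, hxu⟩

/-! ### the two types of pairs -/

/-- first type -/
def T1 (x s : G) : Prop := ∃ (g : G) (h : g * x * g⁻¹ ∈ PP), g * s * g⁻¹ = W0 ∧ ρ ⟨g * x * g⁻¹, h⟩ = φA c0

/-- second type -/
def T2 (x s : G) : Prop := ∃ (g : G) (h : g * x * g⁻¹ ∈ PP), g * s * g⁻¹ = W0 ∧ ρ ⟨g * x * g⁻¹, h⟩ = φA c0 * φB c0

theorem order_sub {x : G} (h : x ∈ PP) (h3 : orderOf x = 3) : orderOf (⟨x, h⟩ : PP) = 3 := by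
  rw [← Subgroup.orderOf_coe]; exact h3

theorem order_conj {x : G} (h3 : orderOf x = 3) (g : G) : orderOf (g * x * g⁻¹) = 3 := by
  rw [← h3]
  exact MulEquiv.orderOf_eq (MulAut.conj g) x

theorem T1_or_T2 {x s : G} (h3 : orderOf x = 3) (hs : IsConj s W0) (hc : x * s = s * x) : T1 x s ∨ T2 x s := by
  obtain ⟨g, hg⟩ := isConj_iff.1 hs
  have h1 : g * x * g⁻¹ ∈ PP := by
    rw [mem_PP, ← hg]
    calc g * x * g⁻¹ * (g * s * g⁻¹) = g * (x * s) * g⁻¹ := by group
      _ = g * (s * x) * g⁻¹ := by rw [hc]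
      _ = _ := by group
  obtain ⟨q, hq⟩ := conj_std (order_sub h1 (order_conj h3 g))
  have e : (((q * ⟨g * x * g⁻¹, h1⟩ * q⁻¹ : PP) :) : G) = ((q : G) * g) * x * ((q : G) * g)⁻¹ := by
    rw [Subgroup.coe_mul, Subgroup.coe_mul, Subgroup.coe_inv]
    group
  have h2 : ((q : G) * g) * x * ((q : G) * g)⁻¹ ∈ PP := by
    rw [← e]; exact ((q * ⟨g * x * g⁻¹, h1⟩ * q⁻¹ :).2 :)
  have h4 : ((q : G) * g) * s * ((q : G) * g)⁻¹ = W0 := by
    have h5 := mem_PP.1 q.2
    calc ((q : G) * g) * s * ((q : G) * g)⁻¹ = q * (g * s * g⁻¹) * (q : G)⁻¹ := by group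
      _ = W0 := by rw [hg, h5, mul_inv_cancel_right]
  have h6 : ((q * ⟨g * x * g⁻¹, h1⟩ * q⁻¹ : PP) :) = ⟨((q : G) * g) * x * ((q : G) * g)⁻¹, h2⟩ := Subtype.ext e
  rw [h6] at hq
  rcases hq with hq | hq
  · exact Or.inl ⟨(q : G) * g, h2, h4, hq⟩
  · exact Or.inr ⟨(q : G) * g, h2, h4, hq⟩

theorem conj_of_types {x s x' s' : G} (h3 : orderOf x = 3) (h3' : orderOf x' = 3) {g g' : G} (h : g * x * g⁻¹ ∈ PP)
    (h' : g' * x' * g'⁻¹ ∈ PP) (hs : g * s * g⁻¹ = W0) (hs' : g' * s' * g'⁻¹ = W0)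
    (hρ : ρ ⟨g * x * g⁻¹, h⟩ = ρ ⟨g' * x' * g'⁻¹, h'⟩) : ∃ c : G, c * x * c⁻¹ = x' ∧ c * s * c⁻¹ = s' := by
  obtain ⟨q, hq⟩ := conj_same (order_sub h (order_conj h3 g)) (order_sub h' (order_conj h3' g')) hρ
  have h1 : (q : G) * (g * x * g⁻¹) * (q : G)⁻¹ = g' * x' * g'⁻¹ := congrArg Subtype.val hq
  have h5 := mem_PP.1 q.2
  refine ⟨g'⁻¹ * q * g, ?_, ?_⟩
  · calc g'⁻¹ * q * g * x * (g'⁻¹ * q * g)⁻¹ = g'⁻¹ * (q * (g * x * g⁻¹) * (q : G)⁻¹) * g' := by group
      _ = x' := by rw [h1]; group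
  · calc g'⁻¹ * q * g * s * (g'⁻¹ * q * g)⁻¹ = g'⁻¹ * (q * (g * s * g⁻¹) * (q : G)⁻¹) * g' := by group
      _ = g'⁻¹ * W0 * g' := by rw [hs, h5, mul_inv_cancel_right]
      _ = s' := by rw [← hs']; group

theorem T1.conj {x s x' s' : G} (h3 : orderOf x = 3) (h3' : orderOf x' = 3) (h : T1 x s) (h' : T1 x' s') :
    ∃ c : G, c * x * c⁻¹ = x' ∧ c * s * c⁻¹ = s' := by
  obtain ⟨g, hg, hs, hρ⟩ := h
  obtain ⟨g', hg', hs', hρ'⟩ := h'
  exact conj_of_types h3 h3' hg hg' hs hs' (hρ.trans hρ'.symm)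

theorem T2.conj {x s x' s' : G} (h3 : orderOf x = 3) (h3' : orderOf x' = 3) (h : T2 x s) (h' : T2 x' s') :
    ∃ c : G, c * x * c⁻¹ = x' ∧ c * s * c⁻¹ = s' := by
  obtain ⟨g, hg, hs, hρ⟩ := h
  obtain ⟨g', hg', hs', hρ'⟩ := h'
  exact conj_of_types h3 h3' hg hg' hs hs' (hρ.trans hρ'.symm)

/-- in a pair of the first type `s` is the only involution of `C(x) ∩ C(s)` -/
theorem T1.unique {x s u : G} (h : T1 x s) (hu : orderOf u = 2) (hux : u * x = x * u) (hus : u * s = s * u) :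
    u = s := by
  obtain ⟨g, hg, hs, hρ⟩ := h
  have h1 : g * u * g⁻¹ ∈ PP := by
    rw [mem_PP, ← hs]
    calc g * u * g⁻¹ * (g * s * g⁻¹) = g * (u * s) * g⁻¹ := by group
      _ = g * (s * u) * g⁻¹ := by rw [hus]
      _ = _ := by group
  have huu : u * u = 1 := by rw [← pow_two, ← hu, pow_orderOf_eq_one]
  have h2 := only_W0 (v := ⟨g * u * g⁻¹, h1⟩) hρ (by
    apply Subtype.ext
    change g * u * g⁻¹ * (g * u * g⁻¹) = 1
    calc g * u * g⁻¹ * (g * u * g⁻¹) = g * (u * u) * g⁻¹ := by group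
      _ = 1 := by rw [huu]; group) (by
    apply Subtype.ext
    change g * u * g⁻¹ * (g * x * g⁻¹) = g * x * g⁻¹ * (g * u * g⁻¹)
    calc g * u * g⁻¹ * (g * x * g⁻¹) = g * (u * x) * g⁻¹ := by group
      _ = g * (x * u) * g⁻¹ := by rw [hux]
      _ = _ := by group)
  rcases h2 with h2 | h2
  · exfalso
    change g * u * g⁻¹ = 1 at h2
    have h3 : u = 1 := by
      calc u = g⁻¹ * (g * u * g⁻¹) * g := by group
        _ = 1 := by rw [h2]; group
    rw [h3, orderOf_one] at hu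
    norm_num at hu
  · change g * u * g⁻¹ = W0 at h2
    rw [← hs] at h2
    exact mul_left_cancel (mul_right_cancel h2)

/-! ### representatives -/

/-- the image of `(0 1 2)(3 4 5)(6 7 8)` -/
noncomputable def X3 : G := Φ ⟨_root_.Cfsg.Agent.CpAutHN.Alt.x3, x3_mem⟩
/-- an involution commuting with `X3` -/
noncomputable def S3 : G := Φ ⟨s3, s3_mem⟩
/-- the image of `(9 10 11)` -/
noncomputable def X1 : G := Φ ⟨x1, x1_mem⟩
/-- an involution commuting with `X1` -/
noncomputable def S1 : G := Φ ⟨s1, s1_mem⟩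

theorem order_X3 : orderOf X3 = 3 := orderOf_three x3_mem (by decide +kernel) (by decide +kernel)
theorem order_X1 : orderOf X1 = 3 := orderOf_three x1_mem (by decide +kernel) (by decide +kernel)
theorem order_S3 : orderOf S3 = 2 := orderOf_two s3_mem (by decide +kernel) (by decide +kernel)
theorem order_S1 : orderOf S1 = 2 := orderOf_two s1_mem (by decide +kernel) (by decide +kernel)

theorem not_conj : ¬ IsConj X1 X3 := by
  intro h
  have h1 := tr_conj h
  have h2 : _root_.Cfsg.Agent.CpAutHN.Tr.tr X1 = 7 := tr_x1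
  have h3 : _root_.Cfsg.Agent.CpAutHN.Tr.tr X3 = 29 := tr_x3
  rw [h2, h3] at h1
  exact absurd h1 (by decide)

theorem t2_x1 : T2 X1 S1 := by
  rcases T1_or_T2 order_X1 (isConj_W0_of_tr order_S1 tr_s1) (comm_of x1_mem s1_mem (by decide +kernel)) with h | h
  · exfalso
    have hm : cy [0, 1] * cy [2, 3] ∈ alternatingGroup (Fin 12) := t2_mem
    have h1 := h.unique (u := tt) order_tt (comm_of t2_mem x1_mem (by decide +kernel))
      (comm_of t2_mem s1_mem (by decide +kernel))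
    have h2 : t2 = s1 := congrArg Subtype.val (Φ_inj h1)
    exact absurd h2 (by decide +kernel)
  · exact h

theorem t1_x3 : T1 X3 S3 := by
  rcases T1_or_T2 order_X3 (isConj_W0_of_tr order_S3 tr_s3) (comm_of x3_mem s3_mem (by decide +kernel)) with h | h
  · exact h
  · exfalso
    obtain ⟨c, hc, -⟩ := t2_x1.conj order_X1 order_X3 h
    exact not_conj (isConj_iff.2 ⟨c, hc⟩)

/-! ### the first type -/

/-- **elements of the first type** -/
theorem comps_T1 (FT : ∀ (K : Type) [Group K] [Finite K], Odd (Nat.card K) → Group.IsSolvable K) {x s : G}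
    (h3 : orderOf x = 3) (h : T1 x s) : LThree.Comps 3 ↥(centralizer ({x} : Set G)) := by
  have hsx : x * s = s * x := by
    obtain ⟨g, hg, hs, -⟩ := h
    have h1 := mem_PP.1 hg
    rw [← hs] at h1
    calc x * s = g⁻¹ * (g * x * g⁻¹ * (g * s * g⁻¹)) * g := by group
      _ = g⁻¹ * (g * s * g⁻¹ * (g * x * g⁻¹)) * g := by rw [h1]
      _ = _ := by group
  have hs2 : orderOf s = 2 := by
    obtain ⟨g, hg, hs, -⟩ := h
    have h1 : orderOf W0 = 2 := orderOf_eq_prime (by rw [pow_two]; exact W0_sq) W0_ne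
    rw [← h1, ← hs]
    exact (MulEquiv.orderOf_eq (MulAut.conj g) s).symm
  let s' : ↥(centralizer ({x} : Set G)) := ⟨s, mem_centralizer_singleton_iff.2 hsx.symm⟩
  have hs' : orderOf s' = 2 := by rw [← Subgroup.orderOf_coe]; exact hs2
  have hone : RankOne.One ↥(centralizer ({x} : Set G)) := by
    refine (CpAutTh.RankOne.uInv_of_unique hs' ?_).1
    intro u hu hus
    apply Subtype.ext
    exact h.unique (by rw [Subgroup.orderOf_coe]; exact hu) (mem_centralizer_singleton_iff.1 u.2)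
      (congrArg Subtype.val hus)
  -- the element inverted by `s`
  obtain ⟨c, hcx, hcs⟩ := t1_x3.conj order_X3 h3 h
  have hy3 : orderOf (Φ ⟨y3, y3_mem⟩) = 3 := orderOf_three y3_mem (by decide +kernel) (by decide +kernel)
  have hyx : Φ ⟨y3, y3_mem⟩ * X3 = X3 * Φ ⟨y3, y3_mem⟩ := comm_of y3_mem x3_mem (by decide +kernel)
  have hys : S3 * Φ ⟨y3, y3_mem⟩ * S3⁻¹ = (Φ ⟨y3, y3_mem⟩)⁻¹ := by
    have h4 : (⟨s3, s3_mem⟩ : A12) * ⟨y3, y3_mem⟩ * (⟨s3, s3_mem⟩ : A12)⁻¹ = (⟨y3, y3_mem⟩ : A12)⁻¹ := by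
      apply Subtype.ext
      change s3 * y3 * s3⁻¹ = y3⁻¹
      decide +kernel
    have h5 := congrArg Φ h4
    rw [map_mul, map_mul, map_inv, map_inv] at h5
    exact h5
  let y : G := c * Φ ⟨y3, y3_mem⟩ * c⁻¹
  have hy : orderOf y = 3 := order_conj hy3 c
  have hyx' : y * x = x * y := by
    rw [← hcx]
    calc c * Φ ⟨y3, y3_mem⟩ * c⁻¹ * (c * X3 * c⁻¹) = c * (Φ ⟨y3, y3_mem⟩ * X3) * c⁻¹ := by group
      _ = c * (X3 * Φ ⟨y3, y3_mem⟩) * c⁻¹ := by rw [hyx]
      _ = c * X3 * c⁻¹ * (c * Φ ⟨y3, y3_mem⟩ * c⁻¹) := by group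
  let y' : ↥(centralizer ({x} : Set G)) := ⟨y, mem_centralizer_singleton_iff.2 hyx'⟩
  have hy' : orderOf y' = 3 := by rw [← Subgroup.orderOf_coe]; exact hy
  refine RankOne.comps_of_not_mem FT (by norm_num) (by norm_num) hone hs' ?_
  refine RankOne.not_mem_core_of_inverts (y := y') (by norm_num) (by norm_num) ?_ ?_ ?_
  · intro h6
    rw [h6, orderOf_one] at hy'
    norm_num at hy'
  · rw [← hy', pow_orderOf_eq_one]
  · apply Subtype.ext
    change s * (c * Φ ⟨y3, y3_mem⟩ * c⁻¹) * s⁻¹ = (c * Φ ⟨y3, y3_mem⟩ * c⁻¹)⁻¹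
    rw [← hcs]
    calc c * S3 * c⁻¹ * (c * Φ ⟨y3, y3_mem⟩ * c⁻¹) * (c * S3 * c⁻¹)⁻¹
        = c * (S3 * Φ ⟨y3, y3_mem⟩ * S3⁻¹) * c⁻¹ := by group
      _ = (c * Φ ⟨y3, y3_mem⟩ * c⁻¹)⁻¹ := by rw [hys]; group

/-- the centralizer of a pair of the second type -/
theorem card_T2 {x s : G} (h : T2 x s) : Nat.card ↥(centralizer ({x} : Set G) ⊓ centralizer ({s} : Set G)) ∣ 576 := by
  obtain ⟨g, hg, hs, hρ⟩ := h
  have h1 : (centralizer ({x} : Set G) ⊓ centralizer ({s} : Set G)).map (MulAut.conj g).toMonoidHom =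
      (CP ⟨g * x * g⁻¹, hg⟩).map PP.subtype := by
    ext y
    rw [mem_map, mem_map]
    constructor
    · rintro ⟨z, ⟨hz1, hz2⟩, rfl⟩
      have hzx : z * x = x * z := mem_centralizer_singleton_iff.1 hz1
      have hzs : z * s = s * z := mem_centralizer_singleton_iff.1 hz2
      have h2 : g * z * g⁻¹ ∈ PP := by
        rw [mem_PP, ← hs]
        calc g * z * g⁻¹ * (g * s * g⁻¹) = g * (z * s) * g⁻¹ := by group
          _ = g * (s * z) * g⁻¹ := by rw [hzs]
          _ = _ := by group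
      refine ⟨⟨g * z * g⁻¹, h2⟩, ?_, rfl⟩
      refine mem_centralizer_singleton_iff.2 (Subtype.ext ?_)
      change g * z * g⁻¹ * (g * x * g⁻¹) = g * x * g⁻¹ * (g * z * g⁻¹)
      calc g * z * g⁻¹ * (g * x * g⁻¹) = g * (z * x) * g⁻¹ := by group
        _ = g * (x * z) * g⁻¹ := by rw [hzx]
        _ = _ := by group
    · rintro ⟨w, hw, rfl⟩
      have hw1 : (w : G) * (g * x * g⁻¹) = g * x * g⁻¹ * w :=
        congrArg Subtype.val (mem_centralizer_singleton_iff.1 hw)
      have hw2 := mem_PP.1 w.2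
      refine ⟨g⁻¹ * w * g, ⟨mem_centralizer_singleton_iff.2 ?_, mem_centralizer_singleton_iff.2 ?_⟩, ?_⟩
      · calc g⁻¹ * w * g * x = g⁻¹ * ((w : G) * (g * x * g⁻¹)) * g := by group
          _ = g⁻¹ * (g * x * g⁻¹ * w) * g := by rw [hw1]
          _ = x * (g⁻¹ * w * g) := by group
      · rw [← hs] at hw2
        calc g⁻¹ * w * g * s = g⁻¹ * ((w : G) * (g * s * g⁻¹)) * g := by group
          _ = g⁻¹ * (g * s * g⁻¹ * w) * g := by rw [hw2]
          _ = s * (g⁻¹ * w * g) := by group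
      · change g * (g⁻¹ * w * g) * g⁻¹ = w
        group
  have h2 : Nat.card ↥(centralizer ({x} : Set G) ⊓ centralizer ({s} : Set G)) =
      Nat.card ↥(CP ⟨g * x * g⁻¹, hg⟩) := by
    rw [Nat.card_congr ((centralizer ({x} : Set G) ⊓ centralizer ({s} : Set G)).equivMapOfInjective
      (MulAut.conj g).toMonoidHom (MulAut.conj g).injective).toEquiv, h1]
    exact (Nat.card_congr ((CP ⟨g * x * g⁻¹, hg⟩).equivMapOfInjective _ PP.subtype_injective).toEquiv).symm
  rw [h2]
  exact card_dvd hρ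

end Cfsg.Agent.CpAutHN.Pairs

end

private theorem dce_8bb9cd25c3a1 : _root_.True := by
  try have : _root_.True := by simp only [_root_.Cfsg.Agent.CpAutHN.Pairs.N9.eq_1]
  try have : _root_.True := by simp only [_root_.Cfsg.Agent.CpAutHN.Alt.Φ.congr_simp]
  exact _root_.True.intro
end

-- part: CpAutHN/Second
section
prune_inst 0x140041000400000000000000000000202000000000400001002004000000800100000000380004000100082000080000000000090000000020000200000000000020004080080000010000006004000000000000000000000000000000000000000000000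
set_option linter.all false
open scoped Cfsg.Agent.FastGrp

-- merged: Cfsg.Agent.CpAutHN.NineAlt
section

/-!
# A Sylow 2-subgroup of `A9` has centre of order 2

`A9` acts on `Fin 9`; `s9 = (0 2)(1 3)(4 7)(5 8)`; some Sylow 2-subgroup `S` (of order 64) has centre `{1, s9}`.
-/

set_option autoImplicit false

namespace Cfsg.Agent.CpAutHN.NineAlt

open Equiv.Perm (mem_alternatingGroup)
open Subgroup

/-- the alternating group of degree 9 -/
abbrev A9 : Type := alternatingGroup (Fin 9)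

/-- cycle -/
def cy9 (l : List (Fin 9)) : Equiv.Perm (Fin 9) := l.formPerm

/-- the central involution -/
def ps : Equiv.Perm (Fin 9) := cy9 [0, 2] * cy9 [1, 3] * cy9 [4, 7] * cy9 [5, 8]
/-- second generator -/
def p2 : Equiv.Perm (Fin 9) := cy9 [0, 1] * cy9 [2, 3] * cy9 [4, 5] * cy9 [7, 8]
/-- third generator -/
def p3 : Equiv.Perm (Fin 9) := cy9 [0, 4] * cy9 [2, 7] * cy9 [1, 5] * cy9 [3, 8]
/-- an element of order 4 -/
def pd : Equiv.Perm (Fin 9) := cy9 [1, 3] * cy9 [4, 5, 7, 8]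

theorem ps_mem : ps ∈ alternatingGroup (Fin 9) := by rw [mem_alternatingGroup]; decide +kernel
theorem p2_mem : p2 ∈ alternatingGroup (Fin 9) := by rw [mem_alternatingGroup]; decide +kernel
theorem p3_mem : p3 ∈ alternatingGroup (Fin 9) := by rw [mem_alternatingGroup]; decide +kernel
theorem pd_mem : pd ∈ alternatingGroup (Fin 9) := by rw [mem_alternatingGroup]; decide +kernel

/-- the central involution -/
def s9 : A9 := ⟨ps, ps_mem⟩
/-- second generator -/
def a9 : A9 := ⟨p2, p2_mem⟩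
/-- third generator -/
def b9 : A9 := ⟨p3, p3_mem⟩
/-- an element of order 4 -/
def d9 : A9 := ⟨pd, pd_mem⟩

theorem s9_sq : s9 * s9 = 1 := Subtype.ext (by change ps * ps = 1; decide +kernel)
theorem a9_sq : a9 * a9 = 1 := Subtype.ext (by change p2 * p2 = 1; decide +kernel)
theorem b9_sq : b9 * b9 = 1 := Subtype.ext (by change p3 * p3 = 1; decide +kernel)
theorem d9_pow : d9 ^ 4 = 1 := Subtype.ext (by change pd ^ 4 = 1; decide +kernel)
theorem s9_ne : s9 ≠ 1 := fun h => absurd (congrArg Subtype.val h) (by change ps ≠ 1; decide +kernel)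
theorem comm_as : a9 * s9 = s9 * a9 := Subtype.ext (by change p2 * ps = ps * p2; decide +kernel)
theorem comm_bs : b9 * s9 = s9 * b9 := Subtype.ext (by change p3 * ps = ps * p3; decide +kernel)
theorem comm_ba : b9 * a9 = a9 * b9 := Subtype.ext (by change p3 * p2 = p2 * p3; decide +kernel)
theorem conj_ds : d9 * s9 * d9⁻¹ = s9 := Subtype.ext (by change pd * ps * pd⁻¹ = ps; decide +kernel)
theorem conj_da : d9 * a9 * d9⁻¹ = s9 * a9 := Subtype.ext (by change pd * p2 * pd⁻¹ = ps * p2; decide +kernel)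
theorem conj_db : d9 * b9 * d9⁻¹ = a9 * b9 := Subtype.ext (by change pd * p3 * pd⁻¹ = p2 * p3; decide +kernel)

theorem pgroup_zpowers {H : Type*} [Group H] {g : H} {n : ℕ} (h : g ^ 2 ^ n = 1) : IsPGroup 2 ↥(zpowers g) := by
  rintro ⟨_, k, rfl⟩
  refine ⟨n, Subtype.ext ?_⟩
  change (g ^ k) ^ 2 ^ n = 1
  rw [← zpow_natCast, ← zpow_mul, mul_comm, zpow_mul, zpow_natCast, h, one_zpow]

/-- an element of a finite group conjugating a generating set into the subgroup normalizes it -/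
theorem mem_normalizer_of {H : Type*} [Group H] [Finite H] {K : Subgroup H} {g : H}
    (h : ∀ x ∈ K, g * x * g⁻¹ ∈ K) : g ∈ normalizer (K : Set H) := by
  have h1 : K.map (MulAut.conj g).toMonoidHom = K := by
    apply Subgroup.eq_of_le_of_card_ge
    · rintro _ ⟨x, hx, rfl⟩
      exact h x hx
    · exact (Nat.card_congr (K.equivMapOfInjective _ (MulAut.conj g).injective).toEquiv).le
  rw [mem_normalizer_iff]
  intro x
  constructor
  · exact h x
  · intro hx
    rw [← h1] at hx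
    obtain ⟨y, hy, hyx⟩ := hx
    have : y = x := (MulAut.conj g).injective hyx
    rwa [← this]

/-- the 2-subgroup generated -/
noncomputable def D32 : Subgroup A9 := zpowers d9 ⊔ (zpowers b9 ⊔ (zpowers a9 ⊔ zpowers s9))

theorem conj_sup {H : Type*} [Group H] {A B K : Subgroup H} {g : H} (hA : ∀ x ∈ A, g * x * g⁻¹ ∈ K)
    (hB : ∀ x ∈ B, g * x * g⁻¹ ∈ K) : ∀ x ∈ A ⊔ B, g * x * g⁻¹ ∈ K := by
  have h : A ⊔ B ≤ K.comap (MulAut.conj g).toMonoidHom := sup_le (fun x hx => hA x hx) fun x hx => hB x hx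
  intro x hx
  exact h hx

theorem conj_zp {H : Type*} [Group H] {K : Subgroup H} {g a : H} (h : g * a * g⁻¹ ∈ K) :
    ∀ x ∈ zpowers a, g * x * g⁻¹ ∈ K := by
  have h1 : zpowers a ≤ K.comap (MulAut.conj g).toMonoidHom := by
    rw [zpowers_le]
    exact h
  intro x hx
  exact h1 hx

theorem isPGroup_D32 : IsPGroup 2 ↥D32 := by
  have hs : IsPGroup 2 ↥(zpowers s9) := pgroup_zpowers (n := 1) (by rw [pow_one, pow_two, s9_sq])
  have ha : IsPGroup 2 ↥(zpowers a9) := pgroup_zpowers (n := 1) (by rw [pow_one, pow_two, a9_sq])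
  have hb : IsPGroup 2 ↥(zpowers b9) := pgroup_zpowers (n := 1) (by rw [pow_one, pow_two, b9_sq])
  have hd : IsPGroup 2 ↥(zpowers d9) := pgroup_zpowers (n := 2) (by rw [show 2 ^ 2 = 4 from rfl, d9_pow])
  have h1 : IsPGroup 2 ↥(zpowers a9 ⊔ zpowers s9) := by
    refine ha.to_sup_of_normal_right' hs ?_
    rw [zpowers_le]
    apply mem_normalizer_of
    refine conj_zp ?_
    rw [comm_as, mul_inv_cancel_right]
    exact mem_zpowers _
  have h2 : IsPGroup 2 ↥(zpowers b9 ⊔ (zpowers a9 ⊔ zpowers s9)) := by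
    refine hb.to_sup_of_normal_right' h1 ?_
    rw [zpowers_le]
    apply mem_normalizer_of
    refine conj_sup (conj_zp ?_) (conj_zp ?_)
    · rw [comm_ba, mul_inv_cancel_right]
      exact mem_sup_left (mem_zpowers _)
    · rw [comm_bs, mul_inv_cancel_right]
      exact mem_sup_right (mem_zpowers _)
  refine hd.to_sup_of_normal_right' h2 ?_
  rw [zpowers_le]
  apply mem_normalizer_of
  have es : s9 ∈ zpowers b9 ⊔ (zpowers a9 ⊔ zpowers s9) := mem_sup_right (mem_sup_right (mem_zpowers _))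
  have ea : a9 ∈ zpowers b9 ⊔ (zpowers a9 ⊔ zpowers s9) := mem_sup_right (mem_sup_left (mem_zpowers _))
  have eb : b9 ∈ zpowers b9 ⊔ (zpowers a9 ⊔ zpowers s9) := mem_sup_left (mem_zpowers _)
  refine conj_sup (conj_zp ?_) (conj_sup (conj_zp ?_) (conj_zp ?_))
  · rw [conj_db]; exact mul_mem ea eb
  · rw [conj_da]; exact mul_mem es ea
  · rw [conj_ds]; exact es

theorem s9_mem : s9 ∈ D32 := mem_sup_right (mem_sup_right (mem_sup_right (mem_zpowers _)))
theorem a9_mem : a9 ∈ D32 := mem_sup_right (mem_sup_right (mem_sup_left (mem_zpowers _)))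
theorem b9_mem : b9 ∈ D32 := mem_sup_right (mem_sup_left (mem_zpowers _))
theorem d9_mem : d9 ∈ D32 := mem_sup_left (mem_zpowers _)

theorem fix_ps : ∀ x : Fin 9, ps x = x → x = 6 := by decide +kernel
theorem fix_pd : ∀ x : Fin 9, pd x = x → x = 0 ∨ x = 2 ∨ x = 6 := by decide +kernel

/-- the words carrying `0` to the points -/
theorem pts : ∀ y : Fin 9, y = 6 ∨ y = 0 ∨ y = ps 0 ∨ y = p2 0 ∨ y = p3 0 ∨ y = ps (p2 0) ∨ y = ps (p3 0) ∨
    y = p2 (p3 0) ∨ y = ps (p2 (p3 0)) := by decide +kernel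

/-- an element commuting with the four generators -/
theorem eq_of_comm {g : Equiv.Perm (Fin 9)} (hs : ∀ x, g (ps x) = ps (g x)) (h2 : ∀ x, g (p2 x) = p2 (g x))
    (h3 : ∀ x, g (p3 x) = p3 (g x)) (hd : ∀ x, g (pd x) = pd (g x)) : g = 1 ∨ g = ps := by
  have h6 : g 6 = 6 := by
    apply fix_ps
    rw [← hs]
    congr 1
  have h0 : pd (g 0) = g 0 := by
    rw [← hd]
    congr 1
  have h06 : g 0 ≠ 6 := by
    intro h
    rw [← h6] at h
    exact absurd (g.injective h) (by decide)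
  rcases fix_pd _ h0 with h | h | h
  · left
    ext y
    rcases pts y with rfl | rfl | rfl | rfl | rfl | rfl | rfl | rfl | rfl <;>
      simp only [hs, h2, h3, h, h6, Equiv.Perm.coe_one, id_eq]
  · right
    have h' : g 0 = ps 0 := by rw [h]; decide +kernel
    have c2 : ∀ x, ps (p2 x) = p2 (ps x) := by decide +kernel
    have c3 : ∀ x, ps (p3 x) = p3 (ps x) := by decide +kernel
    have c6 : ps 6 = 6 := by decide +kernel
    ext y
    rcases pts y with rfl | rfl | rfl | rfl | rfl | rfl | rfl | rfl | rfl <;>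
      simp only [hs, h2, h3, h', h6, c6, c2, c3]
  · exact absurd h h06

theorem card_A9 : Nat.card A9 = 181440 := by
  rw [nat_card_alternatingGroup, Nat.card_eq_fintype_card, Fintype.card_fin]
  decide

/-- **A Sylow 2-subgroup of `A9`** -/
theorem exists_sylow : ∃ S : Sylow 2 A9, Nat.card ↥(S : Subgroup A9) = 64 ∧ s9 ∈ (S : Subgroup A9) ∧
    (∀ x ∈ (S : Subgroup A9), x * s9 = s9 * x) ∧
    ∀ z ∈ (S : Subgroup A9), (∀ x ∈ (S : Subgroup A9), x * z = z * x) → z = 1 ∨ z = s9 := by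
  have : Fact (Nat.Prime 2) := ⟨Nat.prime_two⟩
  obtain ⟨S, hS⟩ := isPGroup_D32.exists_le_sylow
  have hcard : Nat.card ↥(S : Subgroup A9) = 64 := by
    rw [S.card_eq_multiplicity, card_A9, show (181440 : ℕ) = 2 ^ 6 * 2835 by norm_num]
    have h2 : (2835 : ℕ).factorization 2 = 0 := Nat.factorization_eq_zero_of_not_dvd (by norm_num)
    rw [Nat.factorization_mul (by norm_num) (by norm_num), Nat.Prime.factorization_pow Nat.prime_two,
      Finsupp.add_apply, h2, Finsupp.single_eq_same]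
    norm_num
  have hcen : ∀ z ∈ (S : Subgroup A9), (∀ x ∈ (S : Subgroup A9), x * z = z * x) → z = 1 ∨ z = s9 := by
    intro z hz hc
    have key : ∀ {w : A9}, w ∈ D32 → ∀ x, (z : Equiv.Perm (Fin 9)) ((w : Equiv.Perm (Fin 9)) x) =
        (w : Equiv.Perm (Fin 9)) ((z : Equiv.Perm (Fin 9)) x) := by
      intro w hw x
      have h1 := congrArg (fun f : A9 => (f : Equiv.Perm (Fin 9)) x) (hc w (hS hw))
      exact h1.symm
    rcases eq_of_comm (key s9_mem) (key a9_mem) (key b9_mem) (key d9_mem) with h | h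
    · exact Or.inl (Subtype.ext h)
    · exact Or.inr (Subtype.ext h)
  have hnt : Nontrivial ↥(S : Subgroup A9) := by
    rw [← Finite.one_lt_card_iff_nontrivial, hcard]
    norm_num
  have hZ : Nontrivial ↥(center ↥(S : Subgroup A9)) := S.isPGroup'.center_nontrivial
  obtain ⟨z, hz⟩ := exists_ne (1 : ↥(center ↥(S : Subgroup A9)))
  have hzc : ∀ x ∈ (S : Subgroup A9), x * ((z : ↥(S : Subgroup A9)) : A9) = (z : ↥(S : Subgroup A9)) * x := by
    intro x hx
    exact congrArg Subtype.val (mem_center_iff.1 z.2 ⟨x, hx⟩)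
  have hzs : ((z : ↥(S : Subgroup A9)) : A9) = s9 := by
    rcases hcen _ (z : ↥(S : Subgroup A9)).2 hzc with h | h
    · exfalso
      exact hz (Subtype.ext (Subtype.ext h))
    · exact h
  rw [hzs] at hzc
  exact ⟨S, hcard, hS s9_mem, hzc, hcen⟩

end Cfsg.Agent.CpAutHN.NineAlt

end

-- merged: Cfsg.Agent.CpAutHN.Big
section

/-!
# Components of `H / O_{p'}(H)` when a simple subgroup `D` of `H` contains a Sylow 2-subgroup of `H`

* `exists_comp_ge` : for every component `K` of `H / O_{p'}(H)` there is a conjugate component `K'` containing the image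
  of `D`;
* `sylow_of_nine` : `f : A9 →* H` injective with `|C_H(f s9)|` dividing `576`: the Sylow 2-subgroups of `H` have order
  64 and one of them is contained in the image of `f`.
-/

set_option autoImplicit false

namespace Cfsg.Agent.CpAutHN.Big

open Subgroup Cfsg
open Cfsg.Agent.LThree
open Cfsg.Agent.LThree.Red
open Cfsg.Agent.SignalizersComponents
open Cfsg.Agent.CpAutHN.NineAlt
open scoped Pointwise commutatorElement

universe u

variable {H : Type u} [Group H] [Finite H]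

/-- a simple subgroup meeting a component nontrivially is contained in it -/
theorem le_of_inf_ne {D K : Subgroup H} [hD : IsSimpleGroup ↥D] (hK : IsComponent K) (h : D ⊓ K ≠ ⊥) : D ≤ K := by
  -- conjugates of `J = D ∩ K` under `D` normalize `J`
  have key : ∀ g ∈ D, ∀ x ∈ D ⊓ K, ∀ y ∈ D ⊓ K, (g * x * g⁻¹) * y * (g * x * g⁻¹)⁻¹ ∈ D ⊓ K := by
    intro g hg x hx y hy
    have hxD : g * x * g⁻¹ ∈ D := D.mul_mem (D.mul_mem hg hx.1) (D.inv_mem hg)
    refine ⟨D.mul_mem (D.mul_mem hxD hy.1) (D.inv_mem hxD), ?_⟩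
    by_cases he : K.map (MulAut.conj g).toMonoidHom = K
    · have h1 : g * x * g⁻¹ ∈ K := by
        rw [← he]
        exact ⟨x, hx.2, rfl⟩
      exact K.mul_mem (K.mul_mem h1 hy.2) (K.inv_mem h1)
    · have h1 := DistinctComponents.distinct_components_commute (Components.isComponent_conj g hK) hK he
      have h2 : ⁅g * x * g⁻¹, y⁆ ∈ ⁅K.map (MulAut.conj g).toMonoidHom, K⁆ :=
        commutator_mem_commutator ⟨x, hx.2, rfl⟩ hy.2
      rw [h1, mem_bot, commutatorElement_eq_one_iff_mul_comm] at h2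
      rw [h2, mul_inv_cancel_right]
      exact hy.2
  -- the normal closure of `J` in `D`
  let J : Subgroup ↥D := K.subgroupOf D
  have hJ : J ≠ ⊥ := by
    intro hb
    apply h
    rw [eq_bot_iff]
    intro x hx
    have h1 : (⟨x, hx.1⟩ : ↥D) ∈ J := hx.2
    rw [hb, mem_bot] at h1
    rw [mem_bot]
    exact congrArg Subtype.val h1
  have hnc : Subgroup.normalClosure (J : Set ↥D) = ⊤ := by
    rcases (inferInstance : (Subgroup.normalClosure (J : Set ↥D)).Normal).eq_bot_or_eq_top with h1 | h1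
    · exfalso
      apply hJ
      rw [eq_bot_iff, ← h1]
      exact Subgroup.subset_normalClosure
    · exact h1
  have hle : Subgroup.normalClosure (J : Set ↥D) ≤ normalizer (J : Set ↥D) := by
    rw [Subgroup.normalClosure, closure_le]
    intro z hz
    rw [Group.mem_conjugatesOfSet_iff] at hz
    obtain ⟨x, hx, hxz⟩ := hz
    obtain ⟨g, hg⟩ := isConj_iff.1 hxz
    apply mem_normalizer_of
    intro y hy
    have h2 := key (g : H) g.2 (x : H) ⟨x.2, hx⟩ (y : H) ⟨y.2, hy⟩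
    rw [← hg]
    exact h2.2
  rw [hnc, top_le_iff] at hle
  have hn : J.Normal := normalizer_eq_top_iff.1 hle
  rcases hn.eq_bot_or_eq_top with h1 | h1
  · exact absurd h1 hJ
  · exact subgroupOf_eq_top.1 h1

theorem mem_sylow_conj {Y : Type u} [Group Y] [Finite Y] (T : Sylow 2 Y) {u : Y} (hu : orderOf u = 2) :
    ∃ g : Y, g * u * g⁻¹ ∈ (T : Subgroup Y) := by
  have : Fact (Nat.Prime 2) := ⟨Nat.prime_two⟩
  obtain ⟨P, hP⟩ := (IsPGroup.of_card (p := 2) (G := ↥(zpowers u)) (n := 1)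
    (by rw [Nat.card_zpowers, hu, pow_one])).exists_le_sylow
  obtain ⟨g, hg⟩ := MulAction.exists_smul_eq Y P T
  refine ⟨g, ?_⟩
  have h1 : g * u * g⁻¹ ∈ MulAut.conj g • (P : Subgroup Y) := by
    rw [Subgroup.mem_pointwise_smul_iff_inv_smul_mem]
    have h5 : (MulAut.conj g)⁻¹ • (g * u * g⁻¹) = u := by
      rw [← map_inv, MulAut.smul_def, MulAut.conj_apply]
      group
    rw [h5]
    exact hP (mem_zpowers u)
  rw [← hg]
  exact h1

/-- **every component is conjugate to one containing `D`** -/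
theorem exists_comp_ge (FT : ∀ (K : Type u) [Group K] [Finite K], Odd (Nat.card K) → Group.IsSolvable K) {p : ℕ}
    (hp : p.Prime) (D : Subgroup H) [hD : IsSimpleGroup ↥D] (hpD : p ∣ Nat.card ↥D)
    (T : Sylow 2 H) (hT : (T : Subgroup H) ≤ D) (K : Subgroup (H ⧸ pPrimeCore p H)) (hK : IsComponent K) :
    ∃ K' : Subgroup (H ⧸ pPrimeCore p H), IsComponent K' ∧ Nonempty (K ≃* K') ∧
      D.map (QuotientGroup.mk' (pPrimeCore p H)) ≤ K' ∧ D ⊓ pPrimeCore p H = ⊥ := by
  have : Fact (Nat.Prime 2) := ⟨Nat.prime_two⟩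
  have hn := Lib.Cores.pPrimeCore_normal (G := H) p
  -- `D ∩ O_{p'}(H) = 1`
  have hinf : D ⊓ pPrimeCore p H = ⊥ := by
    have h1 : ((pPrimeCore p H).subgroupOf D).Normal := inferInstance
    rcases h1.eq_bot_or_eq_top with h2 | h2
    · rw [eq_bot_iff]
      intro x hx
      have h3 : (⟨x, hx.1⟩ : ↥D) ∈ (pPrimeCore p H).subgroupOf D := hx.2
      rw [h2, mem_bot] at h3
      rw [mem_bot]
      exact congrArg Subtype.val h3
    · exfalso
      have h3 : D ≤ pPrimeCore p H := subgroupOf_eq_top.1 h2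
      have h4 : p ∣ Nat.card ↥(pPrimeCore p H) := hpD.trans (card_dvd_of_le h3)
      exact (hp.coprime_iff_not_dvd.1 (Lib.Cores.pPrimeCore_coprime (G := H) p).symm) h4
  set R := pPrimeCore p H with hR
  let π := QuotientGroup.mk' R
  have hinj : Function.Injective (π.comp D.subtype) := by
    rw [injective_iff_map_eq_one]
    intro a ha
    have h1 : (a : H) ∈ D ⊓ R := ⟨a.2, (QuotientGroup.eq_one_iff _).1 ha⟩
    rw [hinf, mem_bot] at h1
    exact Subtype.ext h1
  have hDe : ↥D ≃* ↥(D.map π) := by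
    have h2 : (π.comp D.subtype).range = D.map π := by
      rw [MonoidHom.range_comp, range_subtype]
    exact (MonoidHom.ofInjective hinj).trans (MulEquiv.subgroupCongr h2)
  have hDs : IsSimpleGroup ↥(D.map π) := (MulEquiv.isSimpleGroup_congr hDe).1 hD
  -- an involution of `K`
  have heven : 2 ∣ Nat.card ↥K := by
    rw [← even_iff_two_dvd, ← Nat.not_odd_iff_even]
    intro ho
    have h1 := FT ↥K ho
    have h2 := hK.2
    exact Components.quasisimple_not_isSolvable h2 h1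
  obtain ⟨u, hu⟩ := exists_prime_orderOf_dvd_card' 2 heven
  have hu2 : orderOf (u : H ⧸ R) = 2 := by rw [Subgroup.orderOf_coe, hu]
  have hTm : ∃ T' : Sylow 2 (H ⧸ R), (T' : Subgroup (H ⧸ R)) ≤ D.map π := by
    refine ⟨T.mapSurjective (QuotientGroup.mk'_surjective R), ?_⟩
    rw [Sylow.coe_mapSurjective]
    exact map_mono hT
  obtain ⟨T', hT'⟩ := hTm
  obtain ⟨g, hg⟩ := mem_sylow_conj T' hu2
  refine ⟨K.map (MulAut.conj g).toMonoidHom, Components.isComponent_conj g hK,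
    ⟨K.equivMapOfInjective _ (MulAut.conj g).injective⟩, ?_, hinf⟩
  apply le_of_inf_ne (Components.isComponent_conj g hK)
  intro hb
  have h1 : g * (u : H ⧸ R) * g⁻¹ ∈ D.map π ⊓ K.map (MulAut.conj g).toMonoidHom := ⟨hT' hg, ⟨u, u.2, rfl⟩⟩
  rw [hb, mem_bot] at h1
  have h2 : (u : H ⧸ R) = 1 := by
    calc (u : H ⧸ R) = g⁻¹ * (g * u * g⁻¹) * g := by group
      _ = 1 := by rw [h1]; group
  rw [h2, orderOf_one] at hu2
  norm_num at hu2

/-- **the Sylow 2-subgroups** -/
theorem sylow_of_nine (f : A9 →* H) (hf : Function.Injective f)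
    (hc : Nat.card ↥(centralizer ({f s9} : Set H)) ∣ 576) :
    ∃ T : Sylow 2 H, (T : Subgroup H) ≤ f.range ∧ Nat.card ↥(T : Subgroup H) = 64 := by
  have : Fact (Nat.Prime 2) := ⟨Nat.prime_two⟩
  obtain ⟨S, hS, hsS, hsc, hcen⟩ := exists_sylow
  have hPg : IsPGroup 2 ↥((S : Subgroup A9).map f) := S.isPGroup'.map f
  have hPc : Nat.card ↥((S : Subgroup A9).map f) = 64 := by
    rw [← hS]
    exact (Nat.card_congr ((S : Subgroup A9).equivMapOfInjective f hf).toEquiv).symm
  obtain ⟨T, hT⟩ := hPg.exists_le_sylow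
  have hTC : (S : Subgroup A9).map f = (T : Subgroup H) ⊓ centralizer ({f s9} : Set H) := by
    apply Subgroup.eq_of_le_of_card_ge
    · refine le_inf hT ?_
      rintro _ ⟨x, hx, rfl⟩
      rw [mem_centralizer_singleton_iff, ← map_mul, ← map_mul, hsc x hx]
    · rw [hPc]
      have h1 : IsPGroup 2 ↥((T : Subgroup H) ⊓ centralizer ({f s9} : Set H)) := T.isPGroup'.to_le inf_le_left
      obtain ⟨n, hn⟩ := IsPGroup.iff_card.1 h1
      have h2 : 2 ^ n ∣ 576 := by
        rw [← hn]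
        exact (card_dvd_of_le inf_le_right).trans hc
      have h3 : 2 ^ n ∣ 64 := by
        rw [show 576 = 64 * 9 by norm_num] at h2
        exact (Nat.Coprime.pow_left n (by norm_num)).dvd_of_dvd_mul_right h2
      rw [hn]
      exact Nat.le_of_dvd (by norm_num) h3
  have hnt : Nontrivial ↥(T : Subgroup H) := by
    rw [← Finite.one_lt_card_iff_nontrivial]
    have := Subgroup.card_le_of_le hT
    rw [hPc] at this
    omega
  have hZ : Nontrivial ↥(center ↥(T : Subgroup H)) := T.isPGroup'.center_nontrivial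
  obtain ⟨z, hz⟩ := exists_ne (1 : ↥(center ↥(T : Subgroup H)))
  have hzc : ∀ x ∈ (T : Subgroup H), x * ((z : ↥(T : Subgroup H)) : H) = (z : ↥(T : Subgroup H)) * x := by
    intro x hx
    exact congrArg Subtype.val (mem_center_iff.1 z.2 ⟨x, hx⟩)
  have hzP : ((z : ↥(T : Subgroup H)) : H) ∈ (S : Subgroup A9).map f := by
    rw [hTC]
    refine ⟨(z : ↥(T : Subgroup H)).2, mem_centralizer_singleton_iff.2 ?_⟩
    exact (hzc _ (hT ⟨s9, hsS, rfl⟩)).symm
  obtain ⟨z0, hz0, hzz⟩ := hzP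
  have hz0c : ∀ x ∈ (S : Subgroup A9), x * z0 = z0 * x := by
    intro x hx
    apply hf
    rw [map_mul, map_mul, hzz]
    exact hzc _ (hT ⟨x, hx, rfl⟩)
  have hz0s : z0 = s9 := by
    rcases hcen z0 hz0 hz0c with h | h
    · exfalso
      rw [h, map_one] at hzz
      exact hz (Subtype.ext (Subtype.ext hzz.symm))
    · exact h
  have hTle : (T : Subgroup H) ≤ centralizer ({f s9} : Set H) := by
    intro x hx
    rw [mem_centralizer_singleton_iff, ← hz0s, hzz]
    exact hzc x hx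
  have hTe : (T : Subgroup H) = (S : Subgroup A9).map f := by rw [hTC, inf_eq_left.2 hTle]
  refine ⟨T, ?_, ?_⟩
  · rw [hTe]
    rintro _ ⟨x, -, rfl⟩
    exact ⟨x, rfl⟩
  · rw [hTe, hPc]

end Cfsg.Agent.CpAutHN.Big

end

-- merged: Cfsg.Agent.CpAutHN.Second
section

/-!
# Elements of order 3 of HN of the second type

`x1 = (9 10 11)`; the subgroup `A9` of `C(X1)`; `exists_sylow_C`: it contains a Sylow 2-subgroup of `C(X1)`, of order 64.
-/

set_option autoImplicit false

namespace Cfsg.Agent.CpAutHN.Second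

open Cfsg.Agent.HN.XWords (W0 W0_sq)
open Cfsg.Agent
open Cfsg.Agent.CpAutHN.Alt
open Cfsg.Agent.CpAutHN.Tr
open Cfsg.Agent.CpAutHN.Pairs
open Cfsg.Agent.CpAutHN.NineAlt
open Cfsg.Agent.Lib.AltCarmichael (Rel exists_hom cyc cyc_mem gen gen_cyc gen_def)
open Equiv.Perm (mem_alternatingGroup)
open Subgroup

/-- the 3-cycles `(i 7 8)` in `Fin 12` -/
def qp (i : ℕ) : Equiv.Perm (Fin 12) := if i < 7 then Equiv.swap (Fin.ofNat 12 i) 7 * Equiv.swap 7 8 else 1

theorem chk_qp : ∀ i < 7, qp i ∈ alternatingGroup (Fin 12) := by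
  have h : ∀ i < 7, Equiv.Perm.sign (qp i) = 1 := by decide +kernel
  exact fun i hi => mem_alternatingGroup.2 (h i hi)

theorem qp_mem (i : ℕ) : qp i ∈ alternatingGroup (Fin 12) := by
  by_cases h : i < 7
  · exact chk_qp i h
  · unfold qp
    rw [if_neg h]
    exact one_mem _

/-- the 3-cycles `(i 7 8)` -/
def q (i : ℕ) : A12 := ⟨qp i, qp_mem i⟩

theorem rel_q : Rel 7 q where
  cube := by
    have h : ∀ i < 7, qp i ^ 3 = 1 := by decide +kernel
    exact fun i hi => Subtype.ext (h i hi)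
  sq := by
    have h : ∀ i < 7, ∀ j < 7, i ≠ j → (qp i * qp j) ^ 2 = 1 := by decide +kernel
    exact fun i hi j hj hij => Subtype.ext (h i hi j hj hij)

/-- the embedding of `A9` in `A12` -/
noncomputable def ι : A9 →* A12 := (exists_hom (m := 7) (by norm_num) rel_q).choose

theorem ι_cyc {i : ℕ} (hi : i < 7) : ι ⟨cyc 7 i, cyc_mem 7 i hi⟩ = q i :=
  (exists_hom (m := 7) (by norm_num) rel_q).choose_spec i hi

theorem s9_word : s9 = ⟨cyc 7 0, cyc_mem 7 0 (by norm_num)⟩ * ⟨cyc 7 1, cyc_mem 7 1 (by norm_num)⟩ *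
    ⟨cyc 7 2, cyc_mem 7 2 (by norm_num)⟩ * ⟨cyc 7 3, cyc_mem 7 3 (by norm_num)⟩ *
    ⟨cyc 7 0, cyc_mem 7 0 (by norm_num)⟩ * ⟨cyc 7 1, cyc_mem 7 1 (by norm_num)⟩ *
    ⟨cyc 7 4, cyc_mem 7 4 (by norm_num)⟩ * ⟨cyc 7 5, cyc_mem 7 5 (by norm_num)⟩ := by
  apply Subtype.ext
  change ps = cyc 7 0 * cyc 7 1 * cyc 7 2 * cyc 7 3 * cyc 7 0 * cyc 7 1 * cyc 7 4 * cyc 7 5
  decide +kernel

/-- `(0 2)(1 3)(4 7)(5 8)` -/
def u9 : Equiv.Perm (Fin 12) := cy [0, 2] * cy [1, 3] * cy [4, 7] * cy [5, 8]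

theorem u9_mem : u9 ∈ alternatingGroup (Fin 12) := by rw [mem_alternatingGroup]; decide +kernel

theorem ι_s9 : ι s9 = ⟨u9, u9_mem⟩ := by
  rw [s9_word]
  simp only [map_mul]
  rw [ι_cyc (by norm_num), ι_cyc (by norm_num), ι_cyc (by norm_num), ι_cyc (by norm_num), ι_cyc (by norm_num),
    ι_cyc (by norm_num)]
  apply Subtype.ext
  change qp 0 * qp 1 * qp 2 * qp 3 * qp 0 * qp 1 * qp 4 * qp 5 = u9
  decide +kernel

theorem simple_A9 : IsSimpleGroup A9 := alternatingGroup.isSimpleGroup (by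
  rw [Nat.card_eq_fintype_card, Fintype.card_fin]; norm_num)

theorem ι_inj : Function.Injective ι := by
  have := simple_A9
  rw [← MonoidHom.ker_eq_bot_iff]
  rcases (inferInstance : (ι).ker.Normal).eq_bot_or_eq_top with h | h
  · exact h
  · exfalso
    have h1 : s9 ∈ ι.ker := by rw [h]; exact Subgroup.mem_top _
    rw [MonoidHom.mem_ker, ι_s9] at h1
    have h2 : u9 = 1 := congrArg Subtype.val h1
    exact absurd h2 (by decide +kernel)

theorem top_of_gens {T : Subgroup A9} (h : ∀ (i : ℕ) (hi : i < 7), (⟨cyc 7 i, cyc_mem 7 i hi⟩ : A9) ∈ T) :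
    T = ⊤ := by
  rw [eq_top_iff]
  intro s _
  have h1 : (s : Equiv.Perm (Fin 9)) ∈ T.map (alternatingGroup (Fin 9)).subtype := by
    have h2 : (s : Equiv.Perm (Fin 9)) ∈ gen 7 (cyc 7) := by
      rw [gen_cyc 7 (by norm_num)]
      exact s.2
    have h3 : gen 7 (cyc 7) ≤ T.map (alternatingGroup (Fin 9)).subtype := by
      rw [gen_def, Subgroup.closure_le]
      rintro _ ⟨i, hi, rfl⟩
      exact ⟨_, h i hi, rfl⟩
    exact h3 h2
  obtain ⟨t, ht, e⟩ := h1
  have : t = s := Subtype.ext e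
  rwa [← this]

/-- the image of `A9` commutes with `(9 10 11)` -/
theorem ι_comm (a : A9) : ι a * ⟨x1, x1_mem⟩ = ⟨x1, x1_mem⟩ * ι a := by
  have h : (centralizer ({(⟨x1, x1_mem⟩ : A12)} : Set A12)).comap ι = ⊤ := by
    apply top_of_gens
    intro i hi
    rw [mem_comap, ι_cyc hi, mem_centralizer_singleton_iff]
    apply Subtype.ext
    change qp i * x1 = x1 * qp i
    have h1 : ∀ i < 7, qp i * x1 = x1 * qp i := by decide +kernel
    exact h1 i hi
  have h1 : a ∈ (centralizer ({(⟨x1, x1_mem⟩ : A12)} : Set A12)).comap ι := by rw [h]; exact mem_top a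
  rw [mem_comap, mem_centralizer_singleton_iff] at h1
  exact h1

/-- `A9 → C(X1)` -/
noncomputable def Ψ : A9 →* ↥(centralizer ({X1} : Set G)) :=
  (Φ.comp ι).codRestrict _ (fun a => by
    rw [mem_centralizer_singleton_iff]
    change Φ (ι a) * Φ ⟨x1, x1_mem⟩ = Φ ⟨x1, x1_mem⟩ * Φ (ι a)
    rw [← map_mul, ι_comm, map_mul])

theorem Ψ_coe (a : A9) : ((Ψ a : ↥(centralizer ({X1} : Set G))) : G) = Φ (ι a) := rfl

theorem Ψ_inj : Function.Injective Ψ := by
  intro a b h
  apply ι_inj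
  apply Φ_inj
  rw [← Ψ_coe, ← Ψ_coe, h]

theorem tr_u9 : tr (Φ ⟨u9, u9_mem⟩) = 5 := by
  rw [tr_of (l := [0, 1, 2, 3, 0, 1, 4, 5]) (by decide) (g := cy [7, 10] * cy [8, 11]) u9_mem
    (by rw [mem_alternatingGroup]; decide +kernel) (by decide +kernel), tr_four]

/-- the centralizer of the involution `Ψ s9` -/
theorem card_cent_s9 : Nat.card ↥(centralizer ({Ψ s9} : Set ↥(centralizer ({X1} : Set G)))) ∣ 576 := by
  have hs : ((Ψ s9 : ↥(centralizer ({X1} : Set G))) : G) = Φ ⟨u9, u9_mem⟩ := by rw [Ψ_coe, ι_s9]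
  have hc : X1 * (Ψ s9 : ↥(centralizer ({X1} : Set G))) = (Ψ s9 : ↥(centralizer ({X1} : Set G))) * X1 :=
    (mem_centralizer_singleton_iff.1 (Ψ s9).2).symm
  have hT : T2 X1 ((Ψ s9 : ↥(centralizer ({X1} : Set G))) : G) := by
    rcases T1_or_T2 order_X1 (isConj_W0_of_tr (s := Φ ⟨u9, u9_mem⟩)
      (orderOf_two u9_mem (by decide +kernel) (by decide +kernel)) tr_u9) (by rw [← hs]; exact hc) with h | h
    · exfalso
      obtain ⟨c, hc, -⟩ := h.conj order_X1 order_X3 t1_x3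
      exact not_conj (isConj_iff.2 ⟨c, hc⟩)
    · rwa [hs]
  have h1 := card_T2 hT
  have h2 : Nat.card ↥(centralizer ({Ψ s9} : Set ↥(centralizer ({X1} : Set G)))) =
      Nat.card ↥(centralizer ({X1} : Set G) ⊓
        centralizer ({((Ψ s9 : ↥(centralizer ({X1} : Set G))) : G)} : Set G)) := by
    refine Nat.card_congr
      { toFun := fun v => ⟨((v : ↥(centralizer ({X1} : Set G))) : G), (v : ↥(centralizer ({X1} : Set G))).2,
          mem_centralizer_singleton_iff.2 (congrArg Subtype.val (mem_centralizer_singleton_iff.1 v.2))⟩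
        invFun := fun v => ⟨⟨(v : G), v.2.1⟩,
          mem_centralizer_singleton_iff.2 (Subtype.ext (mem_centralizer_singleton_iff.1 v.2.2))⟩
        left_inv := fun _ => rfl
        right_inv := fun _ => rfl }
  rw [h2]
  exact h1

/-- **a Sylow 2-subgroup of `C(X1)` in the image of `A9`** -/
theorem exists_sylow_C : ∃ T : Sylow 2 ↥(centralizer ({X1} : Set G)), (T : Subgroup _) ≤ Ψ.range ∧
    Nat.card ↥(T : Subgroup ↥(centralizer ({X1} : Set G))) = 64 :=
  Big.sylow_of_nine Ψ Ψ_inj card_cent_s9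

theorem simple_range : IsSimpleGroup ↥(Ψ.range) :=
  (MulEquiv.isSimpleGroup_congr (MonoidHom.ofInjective Ψ_inj)).1 simple_A9

theorem card_range : Nat.card ↥(Ψ.range) = 181440 := by
  rw [← card_A9]
  exact (Nat.card_congr (MonoidHom.ofInjective Ψ_inj).toEquiv).symm

/-- the order of `C(X1)` divides `2^6 3^6 5^6 7 11 19` -/
theorem card_C_dvd : Nat.card ↥(centralizer ({X1} : Set G)) ∣ 2 ^ 6 * 3 ^ 6 * 5 ^ 6 * 7 * 11 * 19 := by
  have : Fact (Nat.Prime 2) := ⟨Nat.prime_two⟩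
  obtain ⟨T, -, hT⟩ := exists_sylow_C
  have h1 : Nat.card ↥(centralizer ({X1} : Set G)) ∣ 2 ^ 14 * (3 ^ 6 * 5 ^ 6 * 7 * 11 * 19) := by
    have h2 := Subgroup.card_subgroup_dvd_card (centralizer ({X1} : Set G))
    rw [Cfsg.Agent.KFacts.HN.Classes.card_HN] at h2
    exact h2.trans (by norm_num)
  have h3 : Nat.card ↥(centralizer ({X1} : Set G)) = 64 * (T : Subgroup ↥(centralizer ({X1} : Set G))).index := by
    rw [← hT, Subgroup.card_mul_index]
  have h4 : Nat.Coprime (T : Subgroup ↥(centralizer ({X1} : Set G))).index (2 ^ 14) := by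
    apply Nat.Coprime.pow_right
    exact (Nat.Prime.coprime_iff_not_dvd Nat.prime_two).2 T.not_dvd_index |>.symm
  rw [h3] at h1 ⊢
  have h5 : (T : Subgroup ↥(centralizer ({X1} : Set G))).index ∣ 3 ^ 6 * 5 ^ 6 * 7 * 11 * 19 :=
    h4.dvd_of_dvd_mul_left ((dvd_mul_left _ _).trans h1)
  have h6 := Nat.mul_dvd_mul_left 64 h5
  exact h6.trans (by norm_num)

end Cfsg.Agent.CpAutHN.Second

end
end
end
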